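import Cfsg.Agent.H399.Defs

/-!
# A fixed point criterion against the configuration `Conf432`

`conf_false`: `G` acts transitively on `Ω`, `⟨z, a, b⟩` is an extraspecial group of order 27 whose centre `⟨z⟩` fixes
the point `p₀` and 9 points permuted regularly by `⟨a, b⟩`; then `N(Q)` fixes a point.
-/

set_option autoImplicit false

open Pointwise

namespace Cfsg.Agent.H230.ConfFix

open Subgroup Cfsg.Agent.H399

variable {G : Type*} [Group G]

theorem mul_pow_comm {z a b : G} (za : z * a = a * z) (zb : z * b = b * z) (ab : z * (a * b) = b * a) (k j : ℕ) :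
    b ^ k * a ^ j = z ^ (k * j) * (a ^ j * b ^ k) := by
  have Za : Commute z a := za
  have Zb : Commute z b := zb
  have h1 : ∀ k : ℕ, b ^ k * a = z ^ k * (a * b ^ k) := by
    intro k
    induction k with
    | zero => simp
    | succ k ih =>
      have e1 : b * z ^ k = z ^ k * b := ((Zb.pow_left k).eq).symm
      calc b ^ (k + 1) * a = b * (b ^ k * a) := by rw [pow_succ', mul_assoc]
        _ = b * (z ^ k * (a * b ^ k)) := by rw [ih]
        _ = (b * z ^ k) * (a * b ^ k) := by rw [mul_assoc]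
        _ = z ^ k * (b * a) * b ^ k := by rw [e1]; group
        _ = z ^ k * (z * (a * b)) * b ^ k := by rw [ab]
        _ = z ^ (k + 1) * (a * b ^ (k + 1)) := by rw [pow_succ, pow_succ' b]; group
  induction j with
  | zero => simp
  | succ j ih =>
    have e2 : (z ^ k) * a ^ j = a ^ j * z ^ k := ((Za.pow_left k).pow_right j).eq
    calc b ^ k * a ^ (j + 1) = (b ^ k * a ^ j) * a := by rw [pow_succ, mul_assoc]
      _ = z ^ (k * j) * a ^ j * (b ^ k * a) := by rw [ih]; group
      _ = z ^ (k * j) * a ^ j * (z ^ k * (a * b ^ k)) := by rw [h1]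
      _ = z ^ (k * j) * (a ^ j * z ^ k) * (a * b ^ k) := by group
      _ = z ^ (k * j) * (z ^ k * a ^ j) * (a * b ^ k) := by rw [e2]
      _ = z ^ (k * (j + 1)) * (a ^ (j + 1) * b ^ k) := by
        rw [Nat.mul_succ, pow_add, pow_succ a]; group

/-- the elements of the extraspecial group -/
def ex (z a b : G) : Subgroup G := closure ({z, a, b} : Set G)

theorem form {z a b : G} (hz : z ^ 3 = 1) (ha : a ^ 3 = 1) (hb : b ^ 3 = 1) (za : z * a = a * z)
    (zb : z * b = b * z) (ab : z * (a * b) = b * a) {x : G} (hx : x ∈ ex z a b) :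
    ∃ i j k : ℕ, x = z ^ i * (a ^ j * b ^ k) := by
  have Za : Commute z a := za
  have Zb : Commute z b := zb
  have key : ∀ i j k i' j' k' : ℕ, z ^ i * (a ^ j * b ^ k) * (z ^ i' * (a ^ j' * b ^ k')) =
      z ^ (i + i' + k * j') * (a ^ (j + j') * b ^ (k + k')) := by
    intro i j k i' j' k'
    have c1 : (a ^ j * b ^ k) * z ^ i' = z ^ i' * (a ^ j * b ^ k) :=
      (((Za.pow_pow i' j).mul_right (Zb.pow_pow i' k)).eq).symm
    have c2 : a ^ j * z ^ (k * j') = z ^ (k * j') * a ^ j := ((Za.pow_pow (k * j') j).eq).symm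
    calc z ^ i * (a ^ j * b ^ k) * (z ^ i' * (a ^ j' * b ^ k'))
        = z ^ i * ((a ^ j * b ^ k) * z ^ i') * (a ^ j' * b ^ k') := by group
      _ = z ^ i * (z ^ i' * (a ^ j * b ^ k)) * (a ^ j' * b ^ k') := by rw [c1]
      _ = z ^ (i + i') * a ^ j * (b ^ k * a ^ j') * b ^ k' := by rw [pow_add]; group
      _ = z ^ (i + i') * a ^ j * (z ^ (k * j') * (a ^ j' * b ^ k)) * b ^ k' := by
        rw [mul_pow_comm za zb ab]
      _ = z ^ (i + i') * (a ^ j * z ^ (k * j')) * (a ^ j' * b ^ k) * b ^ k' := by group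
      _ = z ^ (i + i') * (z ^ (k * j') * a ^ j) * (a ^ j' * b ^ k) * b ^ k' := by rw [c2]
      _ = _ := by rw [pow_add z (i + i'), pow_add a, pow_add b]; group
  refine closure_induction (p := fun x _ => ∃ i j k : ℕ, x = z ^ i * (a ^ j * b ^ k)) ?_ ?_ ?_ ?_ hx
  · intro x hx
    simp only [Set.mem_insert_iff, Set.mem_singleton_iff] at hx
    rcases hx with rfl | rfl | rfl
    · exact ⟨1, 0, 0, by simp⟩
    · exact ⟨0, 1, 0, by simp⟩
    · exact ⟨0, 0, 1, by simp⟩
  · exact ⟨0, 0, 0, by simp⟩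
  · rintro x y - - ⟨i, j, k, rfl⟩ ⟨i', j', k', rfl⟩
    exact ⟨_, _, _, key i j k i' j' k'⟩
  · rintro x - ⟨i, j, k, rfl⟩
    refine ⟨2 * i + (2 * k) * (2 * j), 2 * j, 2 * k, ?_⟩
    rw [inv_eq_iff_mul_eq_one, key]
    have e1 : z ^ (i + (2 * i + 2 * k * (2 * j)) + k * (2 * j)) = 1 := by
      have : i + (2 * i + 2 * k * (2 * j)) + k * (2 * j) = 3 * (i + 2 * k * j) := by ring
      rw [this, pow_mul, hz, one_pow]
    have e2 : a ^ (j + 2 * j) = 1 := by
      have : j + 2 * j = 3 * j := by ring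
      rw [this, pow_mul, ha, one_pow]
    have e3 : b ^ (k + 2 * k) = 1 := by
      have : k + 2 * k = 3 * k := by ring
      rw [this, pow_mul, hb, one_pow]
    rw [e1, e2, e3, one_mul, one_mul]

theorem mem_z (z a b : G) : z ∈ ex z a b := subset_closure (by simp)
theorem mem_a (z a b : G) : a ∈ ex z a b := subset_closure (by simp)
theorem mem_b (z a b : G) : b ∈ ex z a b := subset_closure (by simp)

theorem isPGroup [Finite G] {z a b : G} (hz : z ^ 3 = 1) (ha : a ^ 3 = 1) (hb : b ^ 3 = 1) (za : z * a = a * z)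
    (zb : z * b = b * z) (ab : z * (a * b) = b * a) : IsPGroup 3 (ex z a b) := by
  have Za : Commute z a := za
  have Zb : Commute z b := zb
  rintro ⟨x, hx⟩
  obtain ⟨i, j, k, rfl⟩ := form hz ha hb za zb ab hx
  refine ⟨2, Subtype.ext ?_⟩
  change (z ^ i * (a ^ j * b ^ k)) ^ (3 ^ 2) = 1
  have c1 : Commute (z ^ i) (a ^ j * b ^ k) := (Za.pow_pow i j).mul_right (Zb.pow_pow i k)
  have e3 : (a ^ j * b ^ k) ^ 3 = z ^ (3 * (k * j)) := by
    have c2 : Commute (z ^ (k * j)) (a ^ j) := Za.pow_pow _ _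
    have c3 : Commute (z ^ (k * j)) (b ^ k) := Zb.pow_pow _ _
    have h1 := mul_pow_comm za zb ab k j
    have h2 : b ^ k * (a ^ j * a ^ j) = z ^ (k * j) * z ^ (k * j) * (a ^ j * a ^ j) * b ^ k := by
      calc b ^ k * (a ^ j * a ^ j) = (b ^ k * a ^ j) * a ^ j := by group
        _ = z ^ (k * j) * (a ^ j * b ^ k) * a ^ j := by rw [h1]
        _ = z ^ (k * j) * a ^ j * (b ^ k * a ^ j) := by group
        _ = z ^ (k * j) * a ^ j * (z ^ (k * j) * (a ^ j * b ^ k)) := by rw [h1]
        _ = z ^ (k * j) * (a ^ j * z ^ (k * j)) * (a ^ j * b ^ k) := by group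
        _ = z ^ (k * j) * (z ^ (k * j) * a ^ j) * (a ^ j * b ^ k) := by rw [c2.eq]
        _ = _ := by group
    have h4 : (a ^ j) ^ 3 = 1 := by rw [← pow_mul, mul_comm, pow_mul, ha, one_pow]
    have h5 : (b ^ k) ^ 3 = 1 := by rw [← pow_mul, mul_comm, pow_mul, hb, one_pow]
    calc (a ^ j * b ^ k) ^ 3 = a ^ j * (b ^ k * a ^ j) * (b ^ k * a ^ j) * b ^ k := by
          simp only [pow_succ, pow_zero, one_mul]; group
      _ = a ^ j * (b ^ k * a ^ j) * (z ^ (k * j) * (a ^ j * b ^ k)) * b ^ k := by rw [h1]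
      _ = a ^ j * b ^ k * (a ^ j * z ^ (k * j)) * a ^ j * (b ^ k * b ^ k) := by group
      _ = a ^ j * b ^ k * (z ^ (k * j) * a ^ j) * a ^ j * (b ^ k * b ^ k) := by rw [c2.eq]
      _ = a ^ j * (b ^ k * z ^ (k * j)) * (a ^ j * a ^ j) * (b ^ k * b ^ k) := by group
      _ = a ^ j * (z ^ (k * j) * b ^ k) * (a ^ j * a ^ j) * (b ^ k * b ^ k) := by rw [c3.eq]
      _ = (a ^ j * z ^ (k * j)) * (b ^ k * (a ^ j * a ^ j)) * (b ^ k * b ^ k) := by group
      _ = (z ^ (k * j) * a ^ j) * (z ^ (k * j) * z ^ (k * j) * (a ^ j * a ^ j) * b ^ k) * (b ^ k * b ^ k) := by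
          rw [h2, c2.eq]
      _ = z ^ (k * j) * (a ^ j * (z ^ (k * j) * z ^ (k * j))) * (a ^ j * a ^ j) * (b ^ k * b ^ k * b ^ k) := by group
      _ = z ^ (k * j) * ((z ^ (k * j) * z ^ (k * j)) * a ^ j) * (a ^ j * a ^ j) * (b ^ k * b ^ k * b ^ k) := by
          rw [(c2.mul_left c2).eq]
      _ = (z ^ (k * j)) ^ 3 * (a ^ j) ^ 3 * (b ^ k) ^ 3 := by simp only [pow_succ, pow_zero, one_mul]; group
      _ = z ^ (3 * (k * j)) := by rw [h4, h5, mul_one, mul_one, ← pow_mul, mul_comm]
  have e4 : (a ^ j * b ^ k) ^ 3 = 1 := by rw [e3, pow_mul, hz, one_pow]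
  rw [c1.mul_pow, show (3 : ℕ) ^ 2 = 3 * 3 from rfl, pow_mul (a ^ j * b ^ k), e4, one_pow, mul_one, ← pow_mul,
    show i * (3 * 3) = 3 * (3 * i) by ring, pow_mul, hz, one_pow]

/-- a 3-group with two elements that do not commute has order at least 27 -/
theorem card_ge [Finite G] {P : Subgroup G} (hP : IsPGroup 3 P) {a b : G} (ha : a ∈ P) (hb : b ∈ P)
    (hab : a * b ≠ b * a) : 27 ≤ Nat.card P := by
  have : Fact (Nat.Prime 3) := ⟨Nat.prime_three⟩
  obtain ⟨n, hn⟩ := IsPGroup.iff_card.1 hP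
  by_contra hlt
  have h3 : n < 3 := by
    by_contra h
    have : 3 ^ 3 ≤ 3 ^ n := Nat.pow_le_pow_right (by norm_num) (by omega)
    omega
  apply hab
  have hc : ∀ x y : P, x * y = y * x := by
    interval_cases n
    · have : Subsingleton P := (Nat.card_eq_one_iff_unique.1 (by simpa using hn)).1
      intro x y; exact Subsingleton.elim _ _
    · have : IsCyclic P := isCyclic_of_prime_card (p := 3) (by simpa using hn)
      intro x y
      exact (IsCyclic.commGroup (α := P)).mul_comm x y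
    · have := IsPGroup.isMulCommutative_of_card_eq_prime_sq (p := 3) hn
      exact fun x y => mul_comm' x y
  exact congrArg Subtype.val (hc ⟨a, ha⟩ ⟨b, hb⟩)

/-- the hypotheses: an extraspecial 3-group with the given fixed points -/
structure Fix (G : Type*) [Group G] {Ω : Type*} [MulAction G Ω] (z a b : G) (q p₀ : Ω) : Prop where
  hz : z ^ 3 = 1
  ha : a ^ 3 = 1
  hb : b ^ 3 = 1
  za : z * a = a * z
  zb : z * b = b * z
  ab : z * (a * b) = b * a
  z1 : z ≠ 1
  zp : z • p₀ = p₀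
  ap : a • p₀ = p₀
  bp : b • p₀ = p₀
  fix : ∀ i : Ω, z • i = i → i = p₀ ∨ ∃ j k : ℕ, i = (a ^ j * b ^ k) • q
  reg : ∀ j < 3, ∀ k < 3, (a ^ j * b ^ k) • q = q → j = 0 ∧ k = 0

section

variable {Ω : Type*} [MulAction G Ω]

theorem Fix.order {z a b : G} {q p₀ : Ω} (h : Fix G z a b q p₀) : orderOf z = 3 :=
  orderOf_eq_prime h.hz h.z1

theorem Fix.ne {z a b : G} {q p₀ : Ω} (h : Fix G z a b q p₀) : a * b ≠ b * a := by
  intro h1
  apply h.z1
  have h2 := h.ab
  rw [← h1] at h2
  exact mul_eq_right.1 h2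

/-- the stabiliser of `q` in the group -/
theorem Fix.stab {z a b : G} {q p₀ : Ω} (h : Fix G z a b q p₀) (hq : z • q = q) {x : G} (hx : x ∈ ex z a b)
    (hxq : x • q = q) : x ∈ zpowers z := by
  obtain ⟨i, j, k, rfl⟩ := form h.hz h.ha h.hb h.za h.zb h.ab hx
  have hzi : ∀ i : ℕ, z ^ i • q = q := by
    intro i
    induction i with
    | zero => simp
    | succ i ih => rw [pow_succ, mul_smul, hq, ih]
  have c1 : z ^ i * (a ^ j * b ^ k) = (a ^ j * b ^ k) * z ^ i := by
    have Za : Commute z a := h.za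
    have Zb : Commute z b := h.zb
    exact ((Za.pow_pow i j).mul_right (Zb.pow_pow i k)).eq
  have h1 : (a ^ j * b ^ k) • q = q := by
    rw [c1, mul_smul, hzi] at hxq
    exact hxq
  have h2 : a ^ j = a ^ (j % 3) := by
    conv_lhs => rw [← Nat.div_add_mod j 3, pow_add, pow_mul, h.ha, one_pow, one_mul]
  have h3 : b ^ k = b ^ (k % 3) := by
    conv_lhs => rw [← Nat.div_add_mod k 3, pow_add, pow_mul, h.hb, one_pow, one_mul]
  rw [h2, h3] at h1
  obtain ⟨e1, e2⟩ := h.reg _ (Nat.mod_lt _ (by norm_num)) _ (Nat.mod_lt _ (by norm_num)) h1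
  rw [h2, h3, e1, e2, pow_zero, pow_zero, mul_one, mul_one]
  exact npow_mem_zpowers z i

/-- the normaliser of a subgroup of order 9 which is its own centraliser fixes the point `p₀` -/
theorem Fix.norm_le [Finite G] {z a b : G} {q p₀ : Ω} (h : Fix G z a b q p₀) (hq : z • q = q) {Q : Subgroup G}
    (hQ : Q ≤ ex z a b) (hc : Nat.card Q = 9) (hC : centralizer (Q : Set G) = Q) :
    normalizer (Q : Set G) ≤ MulAction.stabilizer G p₀ := by
  have hP : ∀ x ∈ ex z a b, x • p₀ = p₀ := by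
    intro x hx
    have : ex z a b ≤ MulAction.stabilizer G p₀ := by
      rw [ex, closure_le]
      intro y hy
      simp only [Set.mem_insert_iff, Set.mem_singleton_iff] at hy
      rcases hy with rfl | rfl | rfl
      · exact h.zp
      · exact h.ap
      · exact h.bp
    exact this hx
  have hzc : ∀ x ∈ ex z a b, z * x = x * z := by
    intro x hx
    obtain ⟨i, j, k, rfl⟩ := form h.hz h.ha h.hb h.za h.zb h.ab hx
    have Za : Commute z a := h.za
    have Zb : Commute z b := h.zb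
    exact (((Commute.refl z).pow_right i).mul_right ((Za.pow_right j).mul_right (Zb.pow_right k))).eq
  have hzQ : z ∈ Q := by
    rw [← hC, mem_centralizer_iff]
    intro x hx
    exact (hzc x (hQ hx)).symm
  have hfix : ∀ i : Ω, (∀ y ∈ Q, y • i = i) → i = p₀ := by
    intro i hi
    rcases h.fix i (hi z hzQ) with h1 | ⟨j, k, rfl⟩
    · exact h1
    · exfalso
      have hle : Q ≤ zpowers z := by
        intro y hy
        have h1 : ((a ^ j * b ^ k)⁻¹ * y * (a ^ j * b ^ k)) • q = q := by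
          rw [mul_smul, mul_smul, hi y hy, inv_smul_smul]
        have hg : a ^ j * b ^ k ∈ ex z a b := mul_mem (pow_mem (mem_a z a b) j) (pow_mem (mem_b z a b) k)
        have h2 : (a ^ j * b ^ k)⁻¹ * y * (a ^ j * b ^ k) ∈ zpowers z :=
          h.stab hq (mul_mem (mul_mem (inv_mem hg) (hQ hy)) hg) h1
        obtain ⟨n, hn⟩ := mem_zpowers_iff.1 h2
        have h3 : y = z ^ n := by
          have h4 : z ^ n * (a ^ j * b ^ k) = (a ^ j * b ^ k) * z ^ n := by
            have Za : Commute z a := h.za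
            have Zb : Commute z b := h.zb
            exact (((Za.zpow_left n).pow_right j).mul_right ((Zb.zpow_left n).pow_right k)).eq
          have h5 : y * (a ^ j * b ^ k) = (a ^ j * b ^ k) * z ^ n := by rw [hn]; group
          rw [← h4] at h5
          exact mul_right_cancel h5
        rw [h3]
        exact ⟨n, rfl⟩
      have h1 := Subgroup.card_le_of_le hle
      rw [hc, Nat.card_zpowers, h.order] at h1
      omega
  intro n hn
  rw [MulAction.mem_stabilizer_iff]
  apply hfix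
  intro y hy
  have h1 : n⁻¹ * y * n ∈ Q := by
    have h2 := (mem_normalizer_iff.1 (inv_mem hn) y).1 hy
    simpa using h2
  calc y • n • p₀ = n • ((n⁻¹ * y * n) • p₀) := by
        rw [← mul_smul, ← mul_smul]; congr 1; group
    _ = n • p₀ := by rw [hP _ (hQ h1)]

end

/-- **the criterion** -/
theorem conf_false [Finite G] {Ω : Type*} [MulAction G Ω] [MulAction.IsPretransitive G Ω]
    {z a b : G} {q p₀ : Ω} (h : Fix G z a b q p₀) (hq : z • q = q)
    (hn : Nat.card Ω ≠ 1) (hne : Nat.card G ≠ Nat.card Ω * 432) {A Q S : Subgroup G} {g : G}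
    (hc : Conf432 A Q S g) : False := by
  have : Fact (Nat.Prime 3) := ⟨Nat.prime_three⟩
  have hPG : IsPGroup 3 (ex z a b) := isPGroup h.hz h.ha h.hb h.za h.zb h.ab
  have hcard : Nat.card (ex z a b) = 27 := by
    have h1 := card_ge hPG (mem_a z a b) (mem_b z a b) h.ne
    obtain ⟨n, hn⟩ := IsPGroup.iff_card.1 hPG
    have h2 : n ≤ 3 := by
      by_contra hlt
      apply hc.sylow
      have h3 : (3 : ℕ) ^ 4 ∣ Nat.card (ex z a b) := by rw [hn]; exact pow_dvd_pow _ (by omega)
      exact h3.trans (Subgroup.card_subgroup_dvd_card _)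
    interval_cases n <;> simp_all
  have hnot : ∀ P : Subgroup G, Nat.card P = 27 → ¬ 3 ∣ P.index := by
    intro P hP h3
    apply hc.sylow
    have h4 := P.card_mul_index
    rw [hP] at h4
    rw [← h4]
    exact Nat.mul_dvd_mul_left 27 h3
  have hS3 : IsPGroup 3 S := IsPGroup.of_card (n := 3) hc.cardS
  let S1 : Sylow 3 G := hS3.toSylow (hnot S hc.cardS)
  let P1 : Sylow 3 G := hPG.toSylow (hnot _ hcard)
  obtain ⟨c, hcc⟩ := MulAction.exists_smul_eq G S1 P1
  have hSP : MulAut.conj c • S = ex z a b := by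
    have h1 : ((c • S1 : Sylow 3 G) : Subgroup G) = (P1 : Subgroup G) := by rw [hcc]
    rw [Sylow.coe_subgroup_smul] at h1
    exact h1
  have hQle : MulAut.conj c • Q ≤ ex z a b := by
    rw [← hSP]
    exact pointwise_smul_le_pointwise_smul_iff.2 hc.QS
  have hQc : Nat.card ↥(MulAut.conj c • Q) = 9 := by
    rw [← hc.cardQ]
    exact (Nat.card_congr (Subgroup.equivSMul (MulAut.conj c) Q).toEquiv).symm
  have hCent : centralizer ((MulAut.conj c • Q : Subgroup G) : Set G) = MulAut.conj c • Q := by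
    ext x
    rw [mem_centralizer_iff, Subgroup.mem_pointwise_smul_iff_inv_smul_mem]
    have h1 : (MulAut.conj c)⁻¹ • x = c⁻¹ * x * c := by
      rw [← map_inv, MulAut.smul_def, MulAut.conj_apply, inv_inv]
    rw [h1]
    have h2 : c⁻¹ * x * c ∈ Q ↔ ∀ y ∈ Q, y * (c⁻¹ * x * c) = (c⁻¹ * x * c) * y := by
      conv_lhs => rw [← hc.cent]
      rw [mem_centralizer_iff]
      rfl
    rw [h2]
    constructor
    · intro h3 y hy
      have h4 := h3 (c * y * c⁻¹) (by
        have h6 := Subgroup.smul_mem_pointwise_smul y (MulAut.conj c) Q hy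
        rw [MulAut.smul_def, MulAut.conj_apply] at h6
        exact h6)
      calc y * (c⁻¹ * x * c) = c⁻¹ * ((c * y * c⁻¹) * x) * c := by group
        _ = c⁻¹ * (x * (c * y * c⁻¹)) * c := by rw [h4]
        _ = _ := by group
    · intro h3 y hy
      have hy' : c⁻¹ * y * c ∈ Q := by
        have h5 := (Subgroup.mem_pointwise_smul_iff_inv_smul_mem).1 hy
        rwa [← map_inv, MulAut.smul_def, MulAut.conj_apply, inv_inv] at h5
      have h4 := h3 _ hy'
      calc y * x = c * ((c⁻¹ * y * c) * (c⁻¹ * x * c)) * c⁻¹ := by group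
        _ = c * ((c⁻¹ * x * c) * (c⁻¹ * y * c)) * c⁻¹ := by rw [h4]
        _ = _ := by group
  have hN := h.norm_le hq hQle hQc hCent
  -- `A` fixes `c⁻¹ • p₀`
  have hA : A ≤ MulAction.stabilizer G (c⁻¹ • p₀) := by
    intro x hx
    rw [← hc.norm] at hx
    have h1 : c * x * c⁻¹ ∈ normalizer ((MulAut.conj c • Q : Subgroup G) : Set G) := by
      rw [mem_normalizer_iff]
      intro y
      have hx' := mem_normalizer_iff.1 hx
      have e1 : ∀ w : G, w ∈ (MulAut.conj c • Q : Subgroup G) ↔ c⁻¹ * w * c ∈ Q := by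
        intro w
        rw [Subgroup.mem_pointwise_smul_iff_inv_smul_mem, ← map_inv, MulAut.smul_def, MulAut.conj_apply, inv_inv]
      have e2 : c⁻¹ * (c * x * c⁻¹ * y * (c * x * c⁻¹)⁻¹) * c = x * (c⁻¹ * y * c) * x⁻¹ := by group
      change y ∈ (MulAut.conj c • Q : Subgroup G) ↔ _ ∈ (MulAut.conj c • Q : Subgroup G)
      rw [e1, e1, e2]
      exact hx' _
    have h2 := hN h1
    rw [MulAction.mem_stabilizer_iff] at h2 ⊢
    calc x • c⁻¹ • p₀ = c⁻¹ • ((c * x * c⁻¹) • p₀) := by
          rw [← mul_smul, ← mul_smul]; congr 1; group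
      _ = c⁻¹ • p₀ := by rw [h2]
  have hidx := MulAction.index_stabilizer_of_transitive G (c⁻¹ • p₀)
  rcases eq_or_lt_of_le hA with h1 | h1
  · rw [← h1] at hidx
    have h2 := A.card_mul_index
    rw [hidx, hc.cardA] at h2
    apply hne
    rw [← h2, mul_comm]
  · have h2 := hc.max.2 _ h1
    rw [h2, index_top] at hidx
    exact hn hidx.symm

/-- the criterion along an isomorphism with a model -/
theorem conf_false_of_equiv {H : Type*} [Group H] [Finite G] (e : G ≃* H) {Ω : Type*} [MulAction H Ω]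
    [MulAction.IsPretransitive H Ω] {z a b : H} {q p₀ : Ω} (h : Fix H z a b q p₀) (hq : z • q = q)
    (hn : Nat.card Ω ≠ 1) (hne : Nat.card H ≠ Nat.card Ω * 432) {A Q S : Subgroup G} {g : G}
    (hc : Conf432 A Q S g) : False := by
  let _ : MulAction G Ω := MulAction.compHom Ω e.toMonoidHom
  have hs : ∀ (x : G) (i : Ω), x • i = e x • i := fun _ _ => rfl
  have : MulAction.IsPretransitive G Ω := ⟨fun x y => by
    obtain ⟨k, hk⟩ := MulAction.exists_smul_eq H x y
    exact ⟨e.symm k, by rw [hs, e.apply_symm_apply, hk]⟩⟩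
  have hf : Fix G (e.symm z) (e.symm a) (e.symm b) q p₀ := by
    refine ⟨?_, ?_, ?_, ?_, ?_, ?_, ?_, ?_, ?_, ?_, ?_, ?_⟩
    · rw [← map_pow, h.hz, map_one]
    · rw [← map_pow, h.ha, map_one]
    · rw [← map_pow, h.hb, map_one]
    · rw [← map_mul, h.za, map_mul]
    · rw [← map_mul, h.zb, map_mul]
    · rw [← map_mul, ← map_mul, h.ab, map_mul]
    · intro h1
      exact h.z1 (e.symm.map_eq_one_iff.1 h1)
    · rw [hs, e.apply_symm_apply, h.zp]
    · rw [hs, e.apply_symm_apply, h.ap]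
    · rw [hs, e.apply_symm_apply, h.bp]
    · intro i hi
      rw [hs, e.apply_symm_apply] at hi
      rcases h.fix i hi with h1 | ⟨j, k, h1⟩
      · exact Or.inl h1
      · refine Or.inr ⟨j, k, ?_⟩
        rw [hs, ← map_pow, ← map_pow, ← map_mul, e.apply_symm_apply]
        exact h1
    · intro j hj k hk h1
      rw [hs, ← map_pow, ← map_pow, ← map_mul, e.apply_symm_apply] at h1
      exact h.reg j hj k hk h1
  refine conf_false hf (by rw [hs, e.apply_symm_apply, hq]) hn ?_ hc
  rw [Nat.card_congr e.toEquiv]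
  exact hne

end Cfsg.Agent.H230.ConfFix
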