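import Cfsg.Agent.H230.GenPsl
import Cfsg.Agent.H99.GenLiftSL

/-!
# TEAM GEN, row `PSL_d(q)`, `d ≥ 3`: the field `ASRows.psl` (helper230, with the lift of helper99)
-/

set_option autoImplicit false

namespace Cfsg.Agent.H230.GenPsl

open Matrix Cfsg.Agent.H384.TwoTrans Cfsg.Agent.H891.Gen Cfsg.Agent.H440.TwoGen

universe u v

theorem liftPSL (F : Type) [Field F] [Fintype F] {d : ℕ} (hd : 3 ≤ d) : LiftPSL F d := by
  obtain ⟨n, rfl⟩ : ∃ n, d = n + 2 := ⟨d - 2, by omega⟩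
  exact liftPSL_of_gl fun j σ f hf hj A B =>
    Cfsg.Agent.H99.GenSL.lift_gl (n := n + 1) (by omega) (fun h => by omega) j σ f hf hj A B

/-- the field `psl` of `ASRows` -/
theorem psl_final :
    ∀ (G : Type u) (Ω : Type v) [Group G] [MulAction G Ω] (T : Subgroup G), AS G Ω T →
      ∀ (F : Type) [Field F] [Fintype F] (d : ℕ), 3 ≤ d →
        Nonempty (↥T ≃* Matrix.ProjectiveSpecialLinearGroup (Fin d) F) →
        Nat.card Ω * (Fintype.card F - 1) = Fintype.card F ^ d - 1 → TwoGen G :=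
  psl_row fun F _ _ _ hd => liftPSL F hd

end Cfsg.Agent.H230.GenPsl
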