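import Cfsg.Agent.H230.MinFamily

/-!
# Strongly `p`-irreducible groups and transitive families
-/

set_option autoImplicit false
open Cfsg

namespace Cfsg.Agent.H230

open Cfsg.Agent.Lib.Cores Cfsg.Agent.Transfer.Residual

variable {H : Type*} [Group H] [Finite H] {p : ℕ} [Fact p.Prime]

set_option linter.unusedSectionVars false

/-- An element inducing on the strongly `p`-irreducible group `E` (with `O_p(E) = 1`) a map `e ↦ [d, e]` with values
commuting with `E` and without nontrivial `p`-elements centralizes `E`. -/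
theorem centralizes_of_central {E : Subgroup H} (hE : IsStronglyPIrreducible p ↥E)
    (hE1 : pCore p ↥E = ⊥) {d : H}
    (hc : ∀ e ∈ E, ∀ f ∈ E, (d * e * d⁻¹ * e⁻¹) * f = f * (d * e * d⁻¹ * e⁻¹))
    (hp : ∀ e ∈ E, ∀ k : ℕ, (d * e * d⁻¹ * e⁻¹) ^ p ^ k = 1 → d * e * d⁻¹ * e⁻¹ = 1) :
    ∀ e ∈ E, d * e * d⁻¹ = e := by
  let ζ : ↥E →* H := MonoidHom.mk' (fun e => d * (e : H) * d⁻¹ * (e : H)⁻¹) (by
    intro a b
    have h1 := hc b b.2 (a : H)⁻¹ (inv_mem a.2)
    show d * ((a : H) * (b : H)) * d⁻¹ * ((a : H) * (b : H))⁻¹ =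
      (d * (a : H) * d⁻¹ * (a : H)⁻¹) * (d * (b : H) * d⁻¹ * (b : H)⁻¹)
    calc d * ((a : H) * (b : H)) * d⁻¹ * ((a : H) * (b : H))⁻¹
        = (d * (a : H) * d⁻¹) * ((d * (b : H) * d⁻¹ * (b : H)⁻¹) * (a : H)⁻¹) := by group
      _ = (d * (a : H) * d⁻¹) * ((a : H)⁻¹ * (d * (b : H) * d⁻¹ * (b : H)⁻¹)) := by rw [h1]
      _ = _ := by group)
  have hζ : ∀ e : ↥E, ζ e = d * (e : H) * d⁻¹ * (e : H)⁻¹ := fun e => rfl
  have hpk : ∀ P : Subgroup ↥E, IsPGroup p ↥P → P ≤ ζ.ker := by
    intro P hP x hx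
    obtain ⟨k, hk⟩ := hP ⟨x, hx⟩
    have hk' : x ^ p ^ k = 1 := congrArg Subtype.val hk
    rw [MonoidHom.mem_ker, hζ]
    apply hp x x.2 k
    rw [← hζ, ← map_pow, hk', map_one]
  have htop : ζ.ker = ⊤ := by
    obtain ⟨P⟩ := (Sylow.nonempty : Nonempty (Sylow p ↥E))
    by_cases hcase : ⁅ζ.ker, (⊤ : Subgroup ↥E)⁆ ≤ pCore p ↥E
    · exfalso
      rw [hE1, le_bot_iff, Subgroup.commutator_eq_bot_iff_le_centralizer] at hcase
      apply hE.1
      apply isPClosed_of_sylow_normal P
      have h1 : (P : Subgroup ↥E) ≤ Subgroup.center ↥E := by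
        refine (hpk P P.2).trans (hcase.trans ?_)
        rw [Subgroup.coe_top, Subgroup.centralizer_univ]
      constructor
      intro x hx g
      have := Subgroup.mem_center_iff.1 (h1 hx) g
      rw [this, mul_inv_cancel_right]
      exact hx
    · have h1 := hE.2 _ (MonoidHom.normal_ker ζ) hcase
      rw [eq_top_iff, ← pResidual_sup_sylow P]
      exact sup_le h1 (hpk P P.2)
  intro e he
  have h1 : (⟨e, he⟩ : ↥E) ∈ ζ.ker := by rw [htop]; exact Subgroup.mem_top _
  rw [MonoidHom.mem_ker, hζ] at h1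
  exact mul_inv_eq_one.1 h1

omit [Fact p.Prime] in
theorem eq_one_of_central_pelement {R : Subgroup H} (hR : pCoreOf p R = ⊥) {z : H} (hz : z ∈ R)
    (hc : ∀ r ∈ R, z * r = r * z) {k : ℕ} (hk : z ^ p ^ k = 1) : z = 1 := by
  have h1 : Subgroup.zpowers z ≤ pCoreOf p R := by
    apply le_pCoreOf
    · rwa [Subgroup.zpowers_le]
    · intro r hr
      rw [← map_conj_eq_iff_mem_normalizer, MonoidHom.map_zpowers]
      congr 1
      show r * z * r⁻¹ = z
      rw [← hc r hr, mul_inv_cancel_right]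
    · rintro ⟨x, n, rfl⟩
      refine ⟨k, ?_⟩
      ext
      show (z ^ n) ^ p ^ k = 1
      rw [← zpow_natCast, ← zpow_mul, mul_comm, zpow_mul, zpow_natCast, hk, one_zpow]
  rw [hR, le_bot_iff, Subgroup.zpowers_eq_bot] at h1
  exact h1

/-- Relative form of the defining property of strongly `p`-irreducible groups. -/
theorem resOf_le_of_not {E N : Subgroup H} (hE : IsStronglyPIrreducible p ↥E) (hE1 : pCore p ↥E = ⊥)
    (hNE : N ≤ E) (hn : E ≤ Subgroup.normalizer (N : Set H)) (h : ⁅N, E⁆ ≠ ⊥) : resOf p E ≤ N := by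
  have h1 : (N.subgroupOf E).Normal := (Subgroup.normal_subgroupOf_iff_le_normalizer hNE).2 hn
  have h2 : ¬ ⁅N.subgroupOf E, (⊤ : Subgroup ↥E)⁆ ≤ pCore p ↥E := by
    rw [hE1, le_bot_iff]
    intro hb
    apply h
    have := congrArg (Subgroup.map E.subtype) hb
    rwa [Subgroup.map_commutator, Subgroup.subgroupOf_map_subtype, inf_eq_left.2 hNE,
      ← MonoidHom.range_eq_map, Subgroup.range_subtype, Subgroup.map_bot] at this
  have h3 := Subgroup.map_mono (f := E.subtype) (hE.2 _ h1 h2)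
  rw [Subgroup.subgroupOf_map_subtype, inf_eq_left.2 hNE] at h3
  exact h3

omit [Finite H] [Fact p.Prime] in
theorem resOf_le_resOf_of_le {E K : Subgroup H} (h : resOf p E ≤ K) : resOf p E ≤ resOf p K := by
  rw [resOf_eq_closure, Subgroup.closure_le]
  rintro x ⟨hx, hxp⟩
  exact mem_resOf_of_coprime (h (mem_resOf_of_coprime hx hxp)) hxp

omit [Fact p.Prime] in
theorem resOf_eq_of_conj {E K : Subgroup H} {h : H} (hK : K = E.map (MulAut.conj h).toMonoidHom)
    (hle : resOf p E ≤ resOf p K) : resOf p E = resOf p K := by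
  apply Subgroup.eq_of_le_of_card_ge hle
  rw [hK, resOf_map_equiv p (MulAut.conj h)]
  exact (Subgroup.card_map_of_injective (MulAut.conj h).injective).le

section Family

variable {𝒦 : Set (Subgroup H)} (hne : 𝒦.Nonempty)
    (hinv : ∀ h : H, ∀ E ∈ 𝒦, E.map (MulAut.conj h).toMonoidHom ∈ 𝒦)
    (htr : ∀ E ∈ 𝒦, ∀ K ∈ 𝒦, ∃ h : H, K = E.map (MulAut.conj h).toMonoidHom)
    (hres : pResidual p H ≤ sSup 𝒦) (hnorm : ∀ E ∈ 𝒦, sSup 𝒦 ≤ Subgroup.normalizer (E : Set H))
    (hcore : pCore p H = ⊥) (hirr : ∀ E ∈ 𝒦, IsStronglyPIrreducible p ↥E)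

include hinv hcore

omit [Fact p.Prime] in
theorem pCoreOf_sSup_eq_bot : pCoreOf p (sSup 𝒦) = ⊥ := by
  have h1 := pCoreOf_le_pCoreOf (p := p) (N := sSup 𝒦) (A := ⊤) le_top (sSup_family_normal hinv)
  rwa [pCoreOf_top, hcore, le_bot_iff] at h1

include hnorm

omit [Fact p.Prime] in
theorem pCoreOf_member_eq_bot {E : Subgroup H} (hE : E ∈ 𝒦) : pCoreOf p E = ⊥ := by
  have h1 := pCoreOf_le_pCoreOf (p := p) (N := E) (A := sSup 𝒦) (le_sSup hE) (hnorm E hE)
  rwa [pCoreOf_sSup_eq_bot hinv hcore, le_bot_iff] at h1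

omit [Fact p.Prime] in
theorem pCore_member_eq_bot {E : Subgroup H} (hE : E ∈ 𝒦) : pCore p ↥E = ⊥ := by
  have h1 := pCoreOf_member_eq_bot hinv hnorm hcore hE
  unfold pCoreOf at h1
  rwa [Subgroup.map_eq_bot_iff_of_injective _ (Subgroup.subtype_injective E)] at h1

include htr hirr

theorem family_commute {E K : Subgroup H} (hE : E ∈ 𝒦) (hK : K ∈ 𝒦) :
    resOf p E = resOf p K ∨ ⁅E, K⁆ = ⊥ := by
  have hEn : K ≤ Subgroup.normalizer (E : Set H) := (le_sSup hK).trans (hnorm E hE)
  have hKn : E ≤ Subgroup.normalizer (K : Set H) := (le_sSup hE).trans (hnorm K hK)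
  have hE1 := pCore_member_eq_bot hinv hnorm hcore hE
  have hK1 := pCore_member_eq_bot hinv hnorm hcore hK
  have hn1 : E ≤ Subgroup.normalizer ((E ⊓ K : Subgroup H) : Set H) := by
    intro e he
    rw [← map_conj_eq_iff_mem_normalizer, Subgroup.map_inf _ _ _ (MulAut.conj e).injective,
      map_conj_of_mem he, map_conj_eq_iff_mem_normalizer.2 (hKn he)]
  have hn2 : K ≤ Subgroup.normalizer ((E ⊓ K : Subgroup H) : Set H) := by
    intro e he
    rw [← map_conj_eq_iff_mem_normalizer, Subgroup.map_inf _ _ _ (MulAut.conj e).injective,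
      map_conj_of_mem he, map_conj_eq_iff_mem_normalizer.2 (hEn he)]
  by_cases h1 : ⁅E ⊓ K, E⁆ = ⊥
  · by_cases h2 : ⁅E ⊓ K, K⁆ = ⊥
    · right
      rw [Subgroup.commutator_eq_bot_iff_le_centralizer] at h1 h2
      have key : ∀ k ∈ K, ∀ e ∈ E, k * e * k⁻¹ = e := by
        intro k hk
        have hmem : ∀ e ∈ E, k * e * k⁻¹ * e⁻¹ ∈ E ⊓ K := by
          intro e he
          constructor
          · exact E.mul_mem ((Subgroup.mem_normalizer_iff.1 (hEn hk) e).1 he) (inv_mem he)
          · have : k * e * k⁻¹ * e⁻¹ = k * (e * k⁻¹ * e⁻¹) := by group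
            rw [this]
            exact K.mul_mem hk ((Subgroup.mem_normalizer_iff.1 (hKn he) k⁻¹).1 (inv_mem hk))
        apply centralizes_of_central (hirr E hE) hE1
        · intro e he f hf
          exact ((Subgroup.mem_centralizer_iff.1 (h1 (hmem e he))) f hf).symm
        · intro e he n hn
          apply eq_one_of_central_pelement (pCoreOf_member_eq_bot hinv hnorm hcore hE) (hmem e he).1 _ hn
          intro f hf
          exact ((Subgroup.mem_centralizer_iff.1 (h1 (hmem e he))) f hf).symm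
      rw [Subgroup.commutator_eq_bot_iff_le_centralizer]
      intro e he
      rw [Subgroup.mem_centralizer_iff]
      intro k hk
      exact mul_inv_eq_iff_eq_mul.1 (key k hk e he)
    · left
      have h3 := resOf_le_of_not (hirr K hK) hK1 inf_le_right hn2 h2
      obtain ⟨h, hh⟩ := htr K hK E hE
      exact (resOf_eq_of_conj hh (resOf_le_resOf_of_le (h3.trans inf_le_left))).symm
  · left
    have h3 := resOf_le_of_not (hirr E hE) hE1 inf_le_left hn1 h1
    obtain ⟨h, hh⟩ := htr E hE K hK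
    exact resOf_eq_of_conj hh (resOf_le_resOf_of_le (h3.trans inf_le_right))

include hne hres

theorem family_irreducible : IsPIrreducible p H := by
  obtain ⟨E₀, hE₀⟩ := hne
  refine ⟨fun hc => (hirr E₀ hE₀).1 (IsPClosed.subgroup hc E₀), ?_⟩
  intro N hN hNc
  have hRn : (sSup 𝒦).Normal := Subgroup.normalizer_eq_top_iff.1 (top_le_iff.1 (sSup_family_normal hinv))
  have hNn : ∀ x : H, x ∈ Subgroup.normalizer (N : Set H) := by
    intro x
    rw [Subgroup.normalizer_eq_top]
    exact Subgroup.mem_top _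
  by_cases hcase : ∃ E ∈ 𝒦, ⁅N ⊓ E, E⁆ ≠ ⊥
  · -- `O^p(E) ≤ N` for one, hence for all members
    obtain ⟨E, hE, hEc⟩ := hcase
    have h1 : resOf p E ≤ N := by
      refine (resOf_le_of_not (hirr E hE) (pCore_member_eq_bot hinv hnorm hcore hE) inf_le_right ?_ hEc).trans
        inf_le_left
      intro e he
      rw [← map_conj_eq_iff_mem_normalizer, Subgroup.map_inf _ _ _ (MulAut.conj e).injective,
        map_conj_of_mem he, map_conj_eq_iff_mem_normalizer.2 (hNn e)]
    have h2 : ∀ K ∈ 𝒦, resOf p K ≤ N := by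
      intro K hK
      obtain ⟨h, rfl⟩ := htr E hE K hK
      rw [resOf_map_equiv p (MulAut.conj h), ← map_conj_eq_iff_mem_normalizer.2 (hNn h)]
      exact Subgroup.map_mono h1
    -- in `H / N` the images of the members are normal `p`-subgroups of the image of `R`
    have h3 : ∀ K ∈ 𝒦, IsPGroup p ↥(K.map (QuotientGroup.mk' N)) := by
      intro K hK
      rintro ⟨_, ⟨x, hx, rfl⟩⟩
      obtain ⟨k, hk⟩ := exists_pow_prime_pow_coprime p x
      refine ⟨k, ?_⟩
      ext
      show (QuotientGroup.mk' N x) ^ p ^ k = 1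
      rw [← map_pow]
      exact (QuotientGroup.eq_one_iff _).2 (h2 K hK (mem_resOf_of_coprime (K.pow_mem hx _) hk))
    have h4 : IsPGroup p ↥((sSup 𝒦).map (QuotientGroup.mk' N)) := by
      have h5 : (sSup 𝒦).map (QuotientGroup.mk' N) ≤ pCoreOf p ((sSup 𝒦).map (QuotientGroup.mk' N)) := by
        rw [Subgroup.map_le_iff_le_comap]
        apply sSup_le
        intro K hK
        rw [← Subgroup.map_le_iff_le_comap]
        apply le_pCoreOf (Subgroup.map_mono (le_sSup hK)) _ (h3 K hK)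
        exact (Subgroup.map_mono (hnorm K hK)).trans (Subgroup.le_normalizer_map _)
      exact (isPGroup_pCoreOf p _).to_le h5
    -- conclude
    rw [pResidual_def, Subgroup.closure_le]
    intro x hx
    have hxR : x ∈ sSup 𝒦 := hres (mem_pResidual_of_coprime hx)
    obtain ⟨k, hk⟩ := IsPGroup.iff_orderOf.1 h4 ⟨_, Subgroup.mem_map_of_mem _ hxR⟩
    rw [Subgroup.orderOf_mk] at hk
    have h6 : Nat.Coprime (orderOf (QuotientGroup.mk' N x)) p :=
      Nat.Coprime.coprime_dvd_left (orderOf_map_dvd _ x) hx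
    have h7 : orderOf (QuotientGroup.mk' N x) = 1 := by
      rw [hk] at h6 ⊢
      rcases Nat.eq_zero_or_pos k with rfl | hk0
      · simp
      · exfalso
        have := Nat.Coprime.coprime_dvd_left (dvd_pow_self p hk0.ne') h6
        rw [Nat.coprime_self] at this
        exact (Fact.out : p.Prime).one_lt.ne' this
    exact (QuotientGroup.eq_one_iff x).1 (orderOf_eq_one_iff.1 h7)
  · -- `N` centralizes `R`, hence is `p`-closed
    exfalso
    push Not at hcase
    have hcm : ∀ n ∈ N, ∀ x : H, n * x * n⁻¹ * x⁻¹ ∈ N := by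
      intro n hn x
      have : n * x * n⁻¹ * x⁻¹ = n * (x * n⁻¹ * x⁻¹) := by group
      rw [this]
      exact N.mul_mem hn (hN.conj_mem _ (inv_mem hn) x)
    -- step 1: `N ∩ R` centralizes `R`
    have s1 : ∀ n ∈ N ⊓ sSup 𝒦, ∀ E ∈ 𝒦, ∀ e ∈ E, n * e * n⁻¹ = e := by
      intro n hn E hE
      have hmem : ∀ e ∈ E, n * e * n⁻¹ * e⁻¹ ∈ N ⊓ E := by
        intro e he
        refine ⟨hcm n hn.1 e, E.mul_mem ((Subgroup.mem_normalizer_iff.1 (hnorm E hE hn.2) e).1 he) (inv_mem he)⟩
      have h1 := hcase E hE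
      rw [Subgroup.commutator_eq_bot_iff_le_centralizer] at h1
      apply centralizes_of_central (hirr E hE) (pCore_member_eq_bot hinv hnorm hcore hE)
      · intro e he f hf
        exact ((Subgroup.mem_centralizer_iff.1 (h1 (hmem e he))) f hf).symm
      · intro e he k hk
        apply eq_one_of_central_pelement (pCoreOf_member_eq_bot hinv hnorm hcore hE) (hmem e he).2 _ hk
        intro f hf
        exact ((Subgroup.mem_centralizer_iff.1 (h1 (hmem e he))) f hf).symm
    have toR : ∀ n : H, (∀ E ∈ 𝒦, ∀ e ∈ E, n * e * n⁻¹ = e) → ∀ r ∈ sSup 𝒦, n * r = r * n := by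
      intro n hn r hr
      have h1 : sSup 𝒦 ≤ Subgroup.centralizer ({n} : Set H) := by
        apply sSup_le
        intro E hE e he
        rw [Subgroup.mem_centralizer_iff]
        rintro _ rfl
        have := hn E hE e he
        exact mul_inv_eq_iff_eq_mul.1 this
      exact (Subgroup.mem_centralizer_iff.1 (h1 hr)) n rfl
    have s2 : ∀ n ∈ N ⊓ sSup 𝒦, ∀ r ∈ sSup 𝒦, n * r = r * n := fun n hn => toR n (s1 n hn)
    -- step 2: `N` centralizes `R`
    have s3 : ∀ n ∈ N, ∀ E ∈ 𝒦, ∀ e ∈ E, n * e * n⁻¹ = e := by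
      intro n hn E hE
      have hmem : ∀ e ∈ E, n * e * n⁻¹ * e⁻¹ ∈ N ⊓ sSup 𝒦 := by
        intro e he
        have heR : e ∈ sSup 𝒦 := le_sSup hE he
        exact ⟨hcm n hn e, (sSup 𝒦).mul_mem (hRn.conj_mem e heR n) (inv_mem heR)⟩
      apply centralizes_of_central (hirr E hE) (pCore_member_eq_bot hinv hnorm hcore hE)
      · intro e he f hf
        exact s2 _ (hmem e he) f (le_sSup hE hf)
      · intro e he k hk
        exact eq_one_of_central_pelement (pCoreOf_sSup_eq_bot hinv hcore) (hmem e he).2 (s2 _ (hmem e he)) hk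
    have s4 : ∀ n ∈ N, ∀ r ∈ sSup 𝒦, n * r = r * n := fun n hn => toR n (s3 n hn)
    -- conclude: a Sylow subgroup of `N` is normal
    apply hNc
    obtain ⟨P⟩ := (Sylow.nonempty : Nonempty (Sylow p ↥N))
    apply isPClosed_of_sylow_normal P
    have hPn : (P : Subgroup ↥N) ⊔ pResidual p ↥N ≤ Subgroup.normalizer ((P : Subgroup ↥N) : Set ↥N) := by
      apply sup_le Subgroup.le_normalizer
      intro x hx
      have hxR : (x : H) ∈ sSup 𝒦 := hres (pResidual_subgroup_le p N ⟨x, hx, rfl⟩)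
      rw [← map_conj_eq_iff_mem_normalizer]
      have hfix : ∀ y : ↥N, x * y * x⁻¹ = y := by
        intro y
        ext
        have := s4 y y.2 x hxR
        show (x : H) * (y : H) * (x : H)⁻¹ = y
        rw [← this, mul_inv_cancel_right]
      have e : (MulAut.conj x).toMonoidHom = MonoidHom.id ↥N := by
        ext y
        have := hfix y
        exact congrArg Subtype.val this
      rw [e, Subgroup.map_id]
    rw [sup_comm, pResidual_sup_sylow P, top_le_iff] at hPn
    exact Subgroup.normalizer_eq_top_iff.1 hPn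

end Family

end Cfsg.Agent.H230
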