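import Cfsg.Agent.H230.RelTwo

/-!
# `p`-minimal groups and transitive families
-/

set_option autoImplicit false
open Cfsg

namespace Cfsg.Agent.H230

open Cfsg.Agent.Lib.Cores Cfsg.Agent.Transfer.Residual

/-- A convenient form of `IsMinimalOver` for finite groups. -/
theorem isMinimalOver_iff {G : Type*} [Group G] [Finite G] {Y : Subgroup G} :
    IsMinimalOver Y ↔ Subgroup.normalClosure (Y : Set G) = ⊤ ∧
      ∃ N : Subgroup G, N ≠ ⊤ ∧ Y ≤ N ∧ ∀ M : Subgroup G, Y ≤ M → M ≠ ⊤ → M ≤ N := by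
  unfold IsMinimalOver
  constructor
  · rintro ⟨h1, N, ⟨hN, hYN⟩, hu⟩
    refine ⟨h1, N, hN.1, hYN, ?_⟩
    intro M hYM hM
    rcases eq_top_or_exists_le_coatom M with h | ⟨C, hC, hMC⟩
    · exact absurd h hM
    · have := hu C ⟨hC, hYM.trans hMC⟩
      rw [← this]
      exact hMC
  · rintro ⟨h1, N, hN, hYN, hu⟩
    refine ⟨h1, N, ⟨⟨hN, ?_⟩, hYN⟩, ?_⟩
    · intro B hB
      by_contra hne
      exact absurd (hu B (hYN.trans hB.le) hne) (not_le_of_gt hB)
    · rintro M ⟨hM, hYM⟩
      have h2 := hu M hYM hM.1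
      rcases hM.le_iff.1 h2 with h | h
      · exact absurd h hN
      · exact h.symm

/-- `IsMinimalOver` and surjections whose kernel lies in `Y`. -/
theorem isMinimalOver_map_iff {G : Type*} [Group G] [Finite G] {K : Type*} [Group K] [Finite K]
    {f : G →* K} (hf : Function.Surjective f) {Y : Subgroup G} (hY : f.ker ≤ Y) :
    IsMinimalOver (Y.map f) ↔ IsMinimalOver Y := by
  have hcm : ∀ M : Subgroup G, Y ≤ M → (M.map f).comap f = M := by
    intro M hM
    rw [Subgroup.comap_map_eq, sup_eq_left]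
    exact hY.trans hM
  rw [isMinimalOver_iff, isMinimalOver_iff]
  have hnc : Subgroup.normalClosure ((Y.map f : Subgroup K) : Set K) =
      (Subgroup.normalClosure (Y : Set G)).map f := by
    rw [Subgroup.map_normalClosure _ _ hf, Subgroup.coe_map]
  constructor
  · rintro ⟨h1, N, hN, hYN, hu⟩
    refine ⟨?_, N.comap f, ?_, Subgroup.map_le_iff_le_comap.1 hYN, ?_⟩
    · rw [hnc] at h1
      rw [← hcm _ Subgroup.subset_normalClosure, h1, Subgroup.comap_top]
    · intro h
      apply hN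
      rw [← Subgroup.map_comap_eq_self_of_surjective hf N, h, Subgroup.map_top_of_surjective f hf]
    · intro M hYM hM
      rw [← Subgroup.map_le_iff_le_comap]
      apply hu _ (Subgroup.map_mono hYM)
      intro h
      apply hM
      rw [← hcm M hYM, h, Subgroup.comap_top]
  · rintro ⟨h1, N, hN, hYN, hu⟩
    refine ⟨?_, N.map f, ?_, Subgroup.map_mono hYN, ?_⟩
    · rw [hnc, h1, Subgroup.map_top_of_surjective f hf]
    · intro h
      apply hN
      rw [← hcm N hYN, h, Subgroup.comap_top]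
    · intro M hYM hM
      rw [← Subgroup.map_comap_eq_self_of_surjective hf M]
      apply Subgroup.map_mono
      apply hu _ (Subgroup.map_le_iff_le_comap.1 hYM)
      intro h
      apply hM
      rw [← Subgroup.map_comap_eq_self_of_surjective hf M, h, Subgroup.map_top_of_surjective f hf]

/-- `p`-minimality under a surjection with `p`-group kernel. -/
theorem pminimal_iff_of_surjective {G : Type*} [Group G] [Finite G] {K : Type*} [Group K] [Finite K]
    {p : ℕ} [Fact p.Prime] {f : G →* K} (hf : Function.Surjective f) (hk : IsPGroup p f.ker) :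
    (∀ T : Sylow p K, IsMinimalOver (T : Subgroup K)) ↔ (∀ T : Sylow p G, IsMinimalOver (T : Subgroup G)) := by
  constructor
  · intro h T
    rw [← isMinimalOver_map_iff hf (hk.le_sylow_of_normal T)]
    exact h (T.mapSurjective hf)
  · intro h T
    obtain ⟨S, hS⟩ := Sylow.mapSurjective_surjective hf p T
    rw [← hS]
    rw [Sylow.coe_mapSurjective, isMinimalOver_map_iff hf (hk.le_sylow_of_normal S)]
    exact h S

theorem isSylowOf_top {G : Type*} [Group G] {p : ℕ} (T : Sylow p G) :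
    IsSylowOf p (T : Subgroup G) (⊤ : Subgroup G) := by
  rw [isSylowOf_iff_maximal]
  exact ⟨le_top, T.2, fun R _ hR hTR => T.3 hR hTR⟩

variable {H : Type*} [Group H]

theorem rel_minimal [Finite H] {E Y : Subgroup H} (hYE : Y ≤ E) (h : IsMinimalOver (Y.subgroupOf E)) :
    (∀ M : Subgroup H, M ≤ E → Y ≤ M → E ≤ Subgroup.normalizer (M : Set H) → M = E) ∧
      ∃ L : Subgroup H, L ≤ E ∧ L ≠ E ∧ Y ≤ L ∧
        ∀ M : Subgroup H, M ≤ E → Y ≤ M → M ≠ E → M ≤ L := by
  rw [isMinimalOver_iff] at h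
  obtain ⟨h1, N, hN, hYN, hu⟩ := h
  constructor
  · intro M hME hYM hn
    have h2 : (M.subgroupOf E).Normal := (Subgroup.normal_subgroupOf_iff_le_normalizer hME).2 hn
    have h3 : Subgroup.normalClosure ((Y.subgroupOf E : Subgroup ↥E) : Set ↥E) ≤ M.subgroupOf E :=
      Subgroup.normalClosure_le_normal (Subgroup.comap_mono hYM)
    rw [h1, top_le_iff, Subgroup.subgroupOf_eq_top] at h3
    exact le_antisymm hME h3
  · refine ⟨N.map E.subtype, Subgroup.map_subtype_le _, ?_, ?_, ?_⟩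
    · intro h
      apply hN
      have h2 := congrArg (Subgroup.comap E.subtype) h
      rw [Subgroup.comap_map_eq_self_of_injective (Subgroup.subtype_injective E)] at h2
      rw [h2]
      exact Subgroup.subgroupOf_self E
    · have := Subgroup.map_mono (f := E.subtype) hYN
      rwa [Subgroup.subgroupOf_map_subtype, inf_eq_left.2 hYE] at this
    · intro M hME hYM hM
      have h2 : M.subgroupOf E ≤ N := by
        apply hu (M.subgroupOf E) (Subgroup.comap_mono hYM)
        intro h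
        exact hM (le_antisymm hME (Subgroup.subgroupOf_eq_top.1 h))
      have := Subgroup.map_mono (f := E.subtype) h2
      rwa [Subgroup.subgroupOf_map_subtype, inf_eq_left.2 hME] at this

theorem map_conj_one (A : Subgroup H) : A.map (MulAut.conj (1 : H)).toMonoidHom = A := by
  have e : (MulAut.conj (1 : H)).toMonoidHom = MonoidHom.id H := by ext; simp
  rw [e, Subgroup.map_id]

theorem map_conj_mul (A : Subgroup H) (a b : H) :
    A.map (MulAut.conj (a * b)).toMonoidHom =
      (A.map (MulAut.conj b).toMonoidHom).map (MulAut.conj a).toMonoidHom := by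
  rw [Subgroup.map_map]
  congr 1
  ext y; simp [mul_assoc]

theorem map_conj_inv_cancel (A : Subgroup H) (a : H) :
    (A.map (MulAut.conj a).toMonoidHom).map (MulAut.conj a⁻¹).toMonoidHom = A := by
  rw [← map_conj_mul, inv_mul_cancel, map_conj_one]

theorem map_conj_cancel_inv (A : Subgroup H) (a : H) :
    (A.map (MulAut.conj a⁻¹).toMonoidHom).map (MulAut.conj a).toMonoidHom = A := by
  rw [← map_conj_mul, mul_inv_cancel, map_conj_one]

theorem map_conj_of_mem {A : Subgroup H} {a : H} (ha : a ∈ A) : A.map (MulAut.conj a).toMonoidHom = A :=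
  map_conj_eq_iff_mem_normalizer.2 (Subgroup.le_normalizer ha)

theorem sSup_family_normal {𝒦 : Set (Subgroup H)}
    (hinv : ∀ h : H, ∀ E ∈ 𝒦, E.map (MulAut.conj h).toMonoidHom ∈ 𝒦) :
    (⊤ : Subgroup H) ≤ Subgroup.normalizer ((sSup 𝒦 : Subgroup H) : Set H) := by
  have key : ∀ h : H, (sSup 𝒦).map (MulAut.conj h).toMonoidHom ≤ sSup 𝒦 := by
    intro h
    rw [Subgroup.map_le_iff_le_comap]
    apply sSup_le
    intro E hE
    rw [← Subgroup.map_le_iff_le_comap]
    exact le_sSup (hinv h E hE)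
  intro h _
  rw [← map_conj_eq_iff_mem_normalizer]
  apply le_antisymm (key h)
  have := Subgroup.map_mono (f := (MulAut.conj h).toMonoidHom) (key h⁻¹)
  rwa [map_conj_cancel_inv] at this

/-- A Sylow subgroup is transitive on the family. -/
theorem sylow_transitive [Finite H] {p : ℕ} [Fact p.Prime] {𝒦 : Set (Subgroup H)}
    (htr : ∀ E ∈ 𝒦, ∀ K ∈ 𝒦, ∃ h : H, K = E.map (MulAut.conj h).toMonoidHom)
    (hres : pResidual p H ≤ sSup 𝒦) (hnorm : ∀ E ∈ 𝒦, sSup 𝒦 ≤ Subgroup.normalizer (E : Set H))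
    (T : Sylow p H) {E K : Subgroup H} (hE : E ∈ 𝒦) (hK : K ∈ 𝒦) :
    ∃ t ∈ (T : Subgroup H), K = E.map (MulAut.conj t).toMonoidHom := by
  obtain ⟨h, hh⟩ := htr E hE K hK
  -- `h = t r`, equivalently `h⁻¹ = r' t'`
  have h1 : h⁻¹ ∈ pResidual p H ⊔ (T : Subgroup H) := by
    rw [pResidual_sup_sylow T]; exact Subgroup.mem_top _
  have hn := pResidual_normal (G := H) p
  rw [Subgroup.mem_sup_of_normal_left] at h1
  obtain ⟨r, hr, t, ht, hrt⟩ := h1
  refine ⟨t⁻¹, inv_mem ht, ?_⟩
  have h2 : h = t⁻¹ * r⁻¹ := by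
    have := congrArg (fun x => x⁻¹) hrt
    simpa using this.symm
  have h3 : E.map (MulAut.conj r⁻¹).toMonoidHom = E :=
    map_conj_eq_iff_mem_normalizer.2 (hnorm E hE (hres (inv_mem hr)))
  rw [hh, h2, map_conj_mul, h3]

theorem sylow_inf_family [Finite H] {p : ℕ} [Fact p.Prime] {𝒦 : Set (Subgroup H)}
    (hinv : ∀ h : H, ∀ E ∈ 𝒦, E.map (MulAut.conj h).toMonoidHom ∈ 𝒦)
    (hnorm : ∀ E ∈ 𝒦, sSup 𝒦 ≤ Subgroup.normalizer (E : Set H))
    (T : Sylow p H) {E : Subgroup H} (hE : E ∈ 𝒦) : IsSylowOf p ((T : Subgroup H) ⊓ E) E := by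
  have h1 := (isSylowOf_top T).inf_normal (N := sSup 𝒦) le_top (sSup_family_normal hinv)
  have h2 := h1.inf_normal (N := E) (le_sSup hE) (hnorm E hE)
  rwa [inf_assoc, inf_eq_right.2 (le_sSup hE)] at h2

/-- The first half of the statement, when `O_p(H)` has been factored out. -/
theorem minimal_of_family [Finite H] {p : ℕ} [Fact p.Prime] {𝒦 : Set (Subgroup H)} (hne : 𝒦.Nonempty)
    (hinv : ∀ h : H, ∀ E ∈ 𝒦, E.map (MulAut.conj h).toMonoidHom ∈ 𝒦)
    (htr : ∀ E ∈ 𝒦, ∀ K ∈ 𝒦, ∃ h : H, K = E.map (MulAut.conj h).toMonoidHom)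
    (hres : pResidual p H ≤ sSup 𝒦) (hnorm : ∀ E ∈ 𝒦, sSup 𝒦 ≤ Subgroup.normalizer (E : Set H))
    (hmin : ∀ E ∈ 𝒦, ∀ T : Sylow p ↥E, IsMinimalOver (T : Subgroup ↥E)) (T : Sylow p H) :
    IsMinimalOver (T : Subgroup H) := by
  classical
  have hRT : sSup 𝒦 ⊔ (T : Subgroup H) = ⊤ := by
    rw [eq_top_iff, ← pResidual_sup_sylow T]
    exact sup_le_sup_right hres _
  have hrel : ∀ E ∈ 𝒦, (∀ M : Subgroup H, M ≤ E → (T : Subgroup H) ⊓ E ≤ M →
        E ≤ Subgroup.normalizer (M : Set H) → M = E) ∧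
      ∃ L : Subgroup H, L ≤ E ∧ L ≠ E ∧ (T : Subgroup H) ⊓ E ≤ L ∧
        ∀ M : Subgroup H, M ≤ E → (T : Subgroup H) ⊓ E ≤ M → M ≠ E → M ≤ L := by
    intro E hE
    obtain ⟨P, hP⟩ := sylow_inf_family hinv hnorm T hE
    apply rel_minimal inf_le_right
    have : ((T : Subgroup H) ⊓ E).subgroupOf E = (P : Subgroup ↥E) := by
      rw [← hP, Subgroup.subgroupOf, Subgroup.comap_map_eq_self_of_injective (Subgroup.subtype_injective E)]
    rw [this]
    exact hmin E hE P
  -- the unique maximal subgroups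
  have hex : ∀ E : Subgroup H, ∃ L : Subgroup H, E ∈ 𝒦 → (L ≤ E ∧ L ≠ E ∧ (T : Subgroup H) ⊓ E ≤ L ∧
        ∀ M : Subgroup H, M ≤ E → (T : Subgroup H) ⊓ E ≤ M → M ≠ E → M ≤ L) := by
    intro E
    by_cases hE : E ∈ 𝒦
    · obtain ⟨L, hL⟩ := (hrel E hE).2
      exact ⟨L, fun _ => hL⟩
    · exact ⟨⊥, fun h => absurd h hE⟩
  choose P hP using hex
  -- proper overgroups of `T` contain no member of the family
  have hproper : ∀ M : Subgroup H, (T : Subgroup H) ≤ M → M ≠ ⊤ → ∀ E ∈ 𝒦, ¬ E ≤ M := by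
    intro M hTM hM E hE hEM
    apply hM
    rw [eq_top_iff, ← hRT]
    refine sup_le (sSup_le ?_) hTM
    intro K hK
    obtain ⟨t, ht, rfl⟩ := sylow_transitive htr hres hnorm T hE hK
    calc E.map (MulAut.conj t).toMonoidHom ≤ M.map (MulAut.conj t).toMonoidHom := Subgroup.map_mono hEM
      _ = M := map_conj_of_mem (hTM ht)
  -- the stabilizer of the function `P`
  let N : Subgroup H :=
    { carrier := {h | ∀ E ∈ 𝒦, (P E).map (MulAut.conj h).toMonoidHom = P (E.map (MulAut.conj h).toMonoidHom)}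
      one_mem' := by
        intro E _
        rw [map_conj_one, map_conj_one]
      mul_mem' := by
        intro a b ha hb E hE
        rw [map_conj_mul, map_conj_mul, hb E hE, ha _ (hinv b E hE)]
      inv_mem' := by
        intro a ha E hE
        have h1 := ha _ (hinv a⁻¹ E hE)
        rw [map_conj_cancel_inv] at h1
        rw [← h1, map_conj_inv_cancel] }
  have hmemN : ∀ h : H, h ∈ N ↔ ∀ E ∈ 𝒦, (P E).map (MulAut.conj h).toMonoidHom =
      P (E.map (MulAut.conj h).toMonoidHom) := fun h => Iff.rfl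
  have hNtop : N ≠ ⊤ := by
    intro hN
    obtain ⟨E, hE⟩ := hne
    obtain ⟨h1, h2, h3, h4⟩ := hP E hE
    apply h2
    apply (hrel E hE).1 _ h1 h3
    intro e he
    rw [← map_conj_eq_iff_mem_normalizer]
    have h5 : e ∈ N := by rw [hN]; exact Subgroup.mem_top _
    rw [(hmemN e).1 h5 E hE, map_conj_of_mem he]
  have hhalf : ∀ M : Subgroup H, (T : Subgroup H) ≤ M → M ≠ ⊤ → ∀ m ∈ M, ∀ E ∈ 𝒦,
      (P E).map (MulAut.conj m).toMonoidHom ≤ P (E.map (MulAut.conj m).toMonoidHom) := by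
    intro M hTM hM m hm E hE
    obtain ⟨h1, h2, h3, h4⟩ := hP E hE
    obtain ⟨g1, g2, g3, g4⟩ := hP _ (hinv m E hE)
    have hMP : M ⊓ E ≤ P E := by
      apply h4 _ inf_le_right (inf_le_inf_right _ hTM)
      intro h
      exact hproper M hTM hM E hE (inf_eq_right.1 h)
    apply g4
    · exact Subgroup.map_mono h1
    · have h5 : (M ⊓ E).map (MulAut.conj m).toMonoidHom ≤ (P E).map (MulAut.conj m).toMonoidHom :=
        Subgroup.map_mono hMP
      rw [Subgroup.map_inf _ _ _ (MulAut.conj m).injective, map_conj_of_mem hm] at h5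
      exact (inf_le_inf_right _ hTM).trans h5
    · intro h
      apply h2
      have := congrArg (fun A : Subgroup H => A.map (MulAut.conj m⁻¹).toMonoidHom) h
      simpa only [map_conj_inv_cancel] using this
  have hall : ∀ M : Subgroup H, (T : Subgroup H) ≤ M → M ≠ ⊤ → M ≤ N := by
    intro M hTM hM m hm
    rw [hmemN]
    intro E hE
    apply le_antisymm (hhalf M hTM hM m hm E hE)
    have h1 := hhalf M hTM hM m⁻¹ (inv_mem hm) _ (hinv m E hE)
    rw [map_conj_inv_cancel] at h1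
    have h2 := Subgroup.map_mono (f := (MulAut.conj m).toMonoidHom) h1
    rwa [map_conj_cancel_inv] at h2
  have hTtop : (T : Subgroup H) ≠ ⊤ := by
    intro h
    obtain ⟨E, hE⟩ := hne
    obtain ⟨h1, h2, h3, h4⟩ := hP E hE
    rw [h, top_inf_eq] at h3
    exact h2 (le_antisymm h1 h3)
  rw [isMinimalOver_iff]
  refine ⟨?_, N, hNtop, hall _ le_rfl hTtop, hall⟩
  have hTL : (T : Subgroup H) ≤ Subgroup.normalClosure ((T : Subgroup H) : Set H) :=
    Subgroup.subset_normalClosure
  rw [eq_top_iff, ← hRT]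
  refine sup_le (sSup_le ?_) hTL
  intro E hE
  have h1 := (hrel E hE).1 (Subgroup.normalClosure ((T : Subgroup H) : Set H) ⊓ E) inf_le_right
    (inf_le_inf_right _ hTL) ?_
  · rw [← h1]; exact inf_le_left
  · intro e he
    rw [← map_conj_eq_iff_mem_normalizer, Subgroup.map_inf _ _ _ (MulAut.conj e).injective,
      map_conj_of_mem he]
    congr 1
    rw [map_conj_eq_iff_mem_normalizer]
    rw [Subgroup.normalizer_eq_top]
    exact Subgroup.mem_top _

end Cfsg.Agent.H230
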