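import Cfsg.Agent.Lib.Cores
import Cfsg.Agent.Transfer.Residual
import Cfsg.Prelude.Def_LocalStructure

/-!
# Relative notions inside an ambient group

`resOf p A = O^p(A)`, `pCoreOf p A = O_p(A)`, Sylow subgroups of a subgroup `A ≤ X` (`IsSylowOf p T A`),
`pElementClosure p A = O^{p'}(A)`, with their behaviour under conjugation, and Frattini arguments.
-/

set_option autoImplicit false
open Cfsg

namespace Cfsg.Agent.H230

variable {X : Type*} [Group X]

/-- `O^p(A)` of a subgroup `A`, as a subgroup of the ambient group. -/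
def resOf (p : ℕ) (A : Subgroup X) : Subgroup X := (pResidual p ↥A).map A.subtype

theorem resOf_def (p : ℕ) (A : Subgroup X) : resOf p A = (pResidual p ↥A).map A.subtype := rfl

theorem resOf_eq_closure (p : ℕ) (A : Subgroup X) :
    resOf p A = Subgroup.closure {g | g ∈ A ∧ (orderOf g).Coprime p} := by
  unfold resOf pResidual
  rw [MonoidHom.map_closure]
  congr 1
  ext g
  constructor
  · rintro ⟨a, ha, rfl⟩
    refine ⟨a.2, ?_⟩
    have : orderOf ((a : X)) = orderOf a := Subgroup.orderOf_coe a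
    rw [Subgroup.coe_subtype, this]
    exact ha
  · rintro ⟨h1, h2⟩
    refine ⟨⟨g, h1⟩, ?_, rfl⟩
    show (orderOf (⟨g, h1⟩ : ↥A)).Coprime p
    rwa [Subgroup.orderOf_mk]

theorem mem_resOf_of_coprime {p : ℕ} {A : Subgroup X} {g : X} (hg : g ∈ A) (h : (orderOf g).Coprime p) :
    g ∈ resOf p A := by
  rw [resOf_eq_closure]
  exact Subgroup.subset_closure ⟨hg, h⟩

theorem resOf_le (p : ℕ) (A : Subgroup X) : resOf p A ≤ A := Subgroup.map_subtype_le _

theorem resOf_mono {p : ℕ} {A B : Subgroup X} (h : A ≤ B) : resOf p A ≤ resOf p B := by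
  rw [resOf_eq_closure, resOf_eq_closure]
  exact Subgroup.closure_mono fun g hg => ⟨h hg.1, hg.2⟩

theorem resOf_map_equiv {Y : Type*} [Group Y] (p : ℕ) (e : X ≃* Y) (A : Subgroup X) :
    resOf p (A.map e.toMonoidHom) = (resOf p A).map e.toMonoidHom := by
  rw [resOf_eq_closure, resOf_eq_closure, MonoidHom.map_closure]
  congr 1
  ext g
  constructor
  · rintro ⟨⟨a, ha, rfl⟩, h2⟩
    refine ⟨a, ⟨ha, ?_⟩, rfl⟩
    have : orderOf (e.toMonoidHom a) = orderOf a := orderOf_injective e.toMonoidHom e.injective a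
    rwa [this] at h2
  · rintro ⟨a, ⟨h1, h2⟩, rfl⟩
    refine ⟨⟨a, h1, rfl⟩, ?_⟩
    have : orderOf (e.toMonoidHom a) = orderOf a := orderOf_injective e.toMonoidHom e.injective a
    rwa [this]

theorem map_conj_eq_iff_mem_normalizer {A : Subgroup X} {x : X} :
    A.map (MulAut.conj x).toMonoidHom = A ↔ x ∈ Subgroup.normalizer (A : Set X) := by
  rw [Subgroup.mem_normalizer_iff]
  constructor
  · intro h y
    constructor
    · intro hy
      rw [← h]
      exact ⟨y, hy, by simp [MulAut.conj_apply]⟩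
    · intro hy
      rw [← h] at hy
      obtain ⟨z, hz, hzy⟩ := hy
      simp [MulAut.conj_apply] at hzy
      rwa [← hzy]
  · intro h
    ext y
    constructor
    · rintro ⟨z, hz, rfl⟩
      have := (h z).1 hz
      simpa [MulAut.conj_apply] using this
    · intro hy
      refine ⟨x⁻¹ * y * x, ?_, by simp [MulAut.conj_apply, mul_assoc]⟩
      show x⁻¹ * y * x ∈ A
      rw [h]
      simpa [mul_assoc] using hy

theorem normalizer_le_of_map_conj {A B : Subgroup X}
    (h : ∀ x, A.map (MulAut.conj x).toMonoidHom = A → B.map (MulAut.conj x).toMonoidHom = B) :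
    Subgroup.normalizer (A : Set X) ≤ Subgroup.normalizer (B : Set X) := by
  intro x hx
  rw [← map_conj_eq_iff_mem_normalizer] at hx ⊢
  exact h x hx

theorem normalizer_le_normalizer_resOf (p : ℕ) (A : Subgroup X) :
    Subgroup.normalizer (A : Set X) ≤ Subgroup.normalizer (resOf p A : Set X) := by
  apply normalizer_le_of_map_conj
  intro x hx
  rw [← resOf_map_equiv p (MulAut.conj x), hx]

theorem le_normalizer_resOf (p : ℕ) (A : Subgroup X) : A ≤ Subgroup.normalizer (resOf p A : Set X) :=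
  Subgroup.le_normalizer.trans (normalizer_le_normalizer_resOf p A)

theorem pElementClosure_map_equiv {Y : Type*} [Group Y] (p : ℕ) (e : X ≃* Y) (A : Subgroup X) :
    pElementClosure p (A.map e.toMonoidHom) = (pElementClosure p A).map e.toMonoidHom := by
  unfold pElementClosure
  rw [MonoidHom.map_closure]
  congr 1
  ext g
  constructor
  · rintro ⟨⟨a, ha, rfl⟩, h2⟩
    refine ⟨a, ⟨ha, ?_⟩, rfl⟩
    have : orderOf (e.toMonoidHom a) = orderOf a := orderOf_injective e.toMonoidHom e.injective a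
    rwa [this] at h2
  · rintro ⟨a, ⟨h1, h2⟩, rfl⟩
    refine ⟨⟨a, h1, rfl⟩, ?_⟩
    have : orderOf (e.toMonoidHom a) = orderOf a := orderOf_injective e.toMonoidHom e.injective a
    rwa [this]

theorem pElementClosure_le (p : ℕ) (A : Subgroup X) : pElementClosure p A ≤ A := by
  unfold pElementClosure
  rw [Subgroup.closure_le]
  exact fun g hg => hg.1

theorem normalizer_le_normalizer_pElementClosure (p : ℕ) (A : Subgroup X) :
    Subgroup.normalizer (A : Set X) ≤ Subgroup.normalizer (pElementClosure p A : Set X) := by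
  apply normalizer_le_of_map_conj
  intro x hx
  rw [← pElementClosure_map_equiv p (MulAut.conj x), hx]

theorem le_pElementClosure_of_isPGroup {p : ℕ} [Fact p.Prime] {A T : Subgroup X} (hTA : T ≤ A)
    (hT : IsPGroup p ↥T) : T ≤ pElementClosure p A := by
  intro t ht
  refine Subgroup.subset_closure ⟨hTA ht, ?_⟩
  obtain ⟨k, hk⟩ := (IsPGroup.iff_orderOf.1 hT) ⟨t, ht⟩
  exact ⟨k, by rw [Subgroup.orderOf_mk] at hk; exact hk⟩

theorem normalizer_le_normalizer_pCoreOf (p : ℕ) (A : Subgroup X) :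
    Subgroup.normalizer (A : Set X) ≤ Subgroup.normalizer (pCoreOf p A : Set X) := by
  apply normalizer_le_of_map_conj
  intro x hx
  have h := Cfsg.Agent.Lib.Cores.map_equiv_pCore (A.equivMapOfInjective (MulAut.conj x).toMonoidHom
    (MulAut.conj x).injective) p
  unfold pCoreOf
  have h2 : (pCore p ↥(A.map (MulAut.conj x).toMonoidHom)).map (A.map (MulAut.conj x).toMonoidHom).subtype =
      ((pCore p ↥A).map A.subtype).map (MulAut.conj x).toMonoidHom := by
    rw [← h, Subgroup.map_map, Subgroup.map_map]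
    congr 1
  rw [← h2]
  congr 1 <;> rw [hx]

/-! ### Sylow subgroups of a subgroup -/

/-- `T` is a Sylow `p`-subgroup of the subgroup `A` of the ambient group. -/
def IsSylowOf (p : ℕ) (T A : Subgroup X) : Prop := ∃ P : Sylow p ↥A, (P : Subgroup ↥A).map A.subtype = T

theorem IsSylowOf.le {p : ℕ} {T A : Subgroup X} (h : IsSylowOf p T A) : T ≤ A := by
  obtain ⟨P, rfl⟩ := h
  exact Subgroup.map_subtype_le _

theorem IsSylowOf.isPGroup {p : ℕ} {T A : Subgroup X} (h : IsSylowOf p T A) : IsPGroup p ↥T := by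
  obtain ⟨P, rfl⟩ := h
  exact P.2.map _

theorem IsSylowOf.of_sylow {p : ℕ} {A : Subgroup X} (P : Sylow p ↥A) :
    IsSylowOf p ((P : Subgroup ↥A).map A.subtype) A := ⟨P, rfl⟩

/-- A `p`-subgroup of `A` that is maximal among the `p`-subgroups of `A`. -/
theorem isSylowOf_iff_maximal {p : ℕ} {T A : Subgroup X} :
    IsSylowOf p T A ↔ T ≤ A ∧ IsPGroup p ↥T ∧ ∀ R : Subgroup X, R ≤ A → IsPGroup p ↥R → T ≤ R → R = T := by
  constructor
  · intro h
    refine ⟨h.le, h.isPGroup, ?_⟩
    obtain ⟨P, rfl⟩ := h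
    intro R hRA hR hPR
    have h1 : IsPGroup p ↥(R.subgroupOf A) := hR.comap_of_injective A.subtype (Subgroup.subtype_injective A)
    have h2 : (P : Subgroup ↥A) ≤ R.subgroupOf A := by
      rw [← Subgroup.map_subtype_le_map_subtype, Subgroup.subgroupOf_map_subtype]
      exact le_inf hPR (Subgroup.map_subtype_le _)
    have h3 := P.3 h1 h2
    rw [← h3, Subgroup.subgroupOf_map_subtype, inf_eq_left.2 hRA]
  · rintro ⟨h1, h2, h3⟩
    refine ⟨⟨T.subgroupOf A, h2.comap_of_injective A.subtype (Subgroup.subtype_injective A), ?_⟩, ?_⟩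
    · intro Q hQ hTQ
      have h4 : T ≤ Q.map A.subtype := by
        have := Subgroup.map_mono (f := A.subtype) hTQ
        rwa [Subgroup.subgroupOf_map_subtype, inf_eq_left.2 h1] at this
      have h5 := h3 (Q.map A.subtype) (Subgroup.map_subtype_le _) (hQ.map _) h4
      rw [← h5, Subgroup.subgroupOf, Subgroup.comap_map_eq_self_of_injective (Subgroup.subtype_injective A)]
    · show (T.subgroupOf A).map A.subtype = T
      rw [Subgroup.subgroupOf_map_subtype, inf_eq_left.2 h1]

theorem IsSylowOf.map_equiv {Y : Type*} [Group Y] {p : ℕ} {T A : Subgroup X} (h : IsSylowOf p T A)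
    (e : X ≃* Y) : IsSylowOf p (T.map e.toMonoidHom) (A.map e.toMonoidHom) := by
  rw [isSylowOf_iff_maximal] at h ⊢
  obtain ⟨h1, h2, h3⟩ := h
  refine ⟨Subgroup.map_mono h1, h2.map _, ?_⟩
  intro R hRA hR hTR
  have h4 : R.map e.symm.toMonoidHom = T := by
    apply h3
    · have := Subgroup.map_mono (f := e.symm.toMonoidHom) hRA
      rw [Subgroup.map_map] at this
      have e1 : e.symm.toMonoidHom.comp e.toMonoidHom = MonoidHom.id X := by ext; simp
      rwa [e1, Subgroup.map_id] at this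
    · exact hR.map _
    · have := Subgroup.map_mono (f := e.symm.toMonoidHom) hTR
      rw [Subgroup.map_map] at this
      have e1 : e.symm.toMonoidHom.comp e.toMonoidHom = MonoidHom.id X := by ext; simp
      rwa [e1, Subgroup.map_id] at this
  rw [← h4, Subgroup.map_map]
  have e1 : e.toMonoidHom.comp e.symm.toMonoidHom = MonoidHom.id Y := by ext; simp
  rw [e1, Subgroup.map_id]

theorem IsSylowOf.card_eq {p : ℕ} [Fact p.Prime] {T A : Subgroup X} [Finite ↥A] (h : IsSylowOf p T A)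
    (P : Sylow p ↥A) : Nat.card ↥T = Nat.card ↥(P : Subgroup ↥A) := by
  obtain ⟨Q, rfl⟩ := h
  rw [Subgroup.card_map_of_injective (Subgroup.subtype_injective A)]
  exact Nat.card_congr (Q.equiv P).toEquiv

theorem isSylowOf_of_card {p : ℕ} [Fact p.Prime] {T A : Subgroup X} [Finite ↥A] (hTA : T ≤ A)
    (hT : IsPGroup p ↥T) (P : Sylow p ↥A) (hc : Nat.card ↥(P : Subgroup ↥A) ≤ Nat.card ↥T) :
    IsSylowOf p T A := by
  have h1 : IsPGroup p ↥(T.subgroupOf A) := hT.comap_of_injective A.subtype (Subgroup.subtype_injective A)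
  obtain ⟨Q, hQ⟩ := h1.exists_le_sylow
  refine ⟨Q, ?_⟩
  have hc2 : Nat.card ↥(T.subgroupOf A) = Nat.card ↥T :=
    Nat.card_congr (Subgroup.subgroupOfEquivOfLe hTA).toEquiv
  have hc3 : Nat.card ↥(Q : Subgroup ↥A) = Nat.card ↥(P : Subgroup ↥A) :=
    Nat.card_congr (Q.equiv P).toEquiv
  have h2 : T.subgroupOf A = Q := Subgroup.eq_of_le_of_card_ge hQ (by rw [hc3, hc2]; exact hc)
  rw [← h2, Subgroup.subgroupOf_map_subtype, inf_eq_left.2 hTA]

/-- A Sylow subgroup of `A` contained in the smaller subgroup `B` is one of `B`. -/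
theorem IsSylowOf.of_le {p : ℕ} {T A B : Subgroup X} (h : IsSylowOf p T A) (hBA : B ≤ A) (hTB : T ≤ B) :
    IsSylowOf p T B := by
  rw [isSylowOf_iff_maximal] at h ⊢
  exact ⟨hTB, h.2.1, fun R hR hRp hTR => h.2.2 R (hR.trans hBA) hRp hTR⟩

theorem exists_isSylowOf_ge {p : ℕ} [Fact p.Prime] {R A : Subgroup X} [Finite ↥A] (hRA : R ≤ A)
    (hR : IsPGroup p ↥R) : ∃ T : Subgroup X, IsSylowOf p T A ∧ R ≤ T := by
  have h1 : IsPGroup p ↥(R.subgroupOf A) := hR.comap_of_injective A.subtype (Subgroup.subtype_injective A)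
  obtain ⟨Q, hQ⟩ := h1.exists_le_sylow
  refine ⟨_, ⟨Q, rfl⟩, ?_⟩
  have := Subgroup.map_mono (f := A.subtype) hQ
  rwa [Subgroup.subgroupOf_map_subtype, inf_eq_left.2 hRA] at this

theorem exists_isSylowOf {p : ℕ} [Fact p.Prime] (A : Subgroup X) [Finite ↥A] :
    ∃ T : Subgroup X, IsSylowOf p T A := by
  obtain ⟨P⟩ := (Sylow.nonempty : Nonempty (Sylow p ↥A))
  exact ⟨_, P, rfl⟩

theorem IsSylowOf.exists_conj {p : ℕ} [Fact p.Prime] {T T' A : Subgroup X} [Finite ↥A]
    (h : IsSylowOf p T A) (h' : IsSylowOf p T' A) :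
    ∃ a ∈ A, T.map (MulAut.conj a).toMonoidHom = T' := by
  obtain ⟨P, rfl⟩ := h
  obtain ⟨P', rfl⟩ := h'
  obtain ⟨a, ha⟩ := MulAction.exists_smul_eq (↥A) P P'
  refine ⟨a, a.2, ?_⟩
  have h1 : (P' : Subgroup ↥A) = (P : Subgroup ↥A).map (MulAut.conj a).toMonoidHom := by
    rw [← ha]; rfl
  rw [h1, Subgroup.map_map, Subgroup.map_map]
  congr 1

/-- `A = O^p(A) T`. -/
theorem IsSylowOf.resOf_sup {p : ℕ} [Fact p.Prime] {T A : Subgroup X} [Finite ↥A] (h : IsSylowOf p T A) :
    resOf p A ⊔ T = A := by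
  obtain ⟨P, rfl⟩ := h
  unfold resOf
  rw [← Subgroup.map_sup, Cfsg.Agent.Transfer.Residual.pResidual_sup_sylow P]
  rw [← MonoidHom.range_eq_map, Subgroup.range_subtype]

/-- `A = O^p(A) T` elementwise. -/
theorem IsSylowOf.exists_mul {p : ℕ} [Fact p.Prime] {T A : Subgroup X} [Finite ↥A] (h : IsSylowOf p T A)
    {a : X} (ha : a ∈ A) : ∃ x ∈ resOf p A, ∃ t ∈ T, a = x * t := by
  obtain ⟨P, rfl⟩ := h
  have hn := Cfsg.Agent.Transfer.Residual.pResidual_normal (G := ↥A) p
  have h1 : (⟨a, ha⟩ : ↥A) ∈ pResidual p ↥A ⊔ (P : Subgroup ↥A) := by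
    rw [Cfsg.Agent.Transfer.Residual.pResidual_sup_sylow P]
    exact Subgroup.mem_top _
  rw [Subgroup.mem_sup_of_normal_left] at h1
  obtain ⟨y, hy, z, hz, hyz⟩ := h1
  exact ⟨y, ⟨y, hy, rfl⟩, z, ⟨z, hz, rfl⟩, by rw [← Subgroup.coe_mul, hyz]⟩

/-- Frattini: `A = O^p(O^{p'}(A)) N_A(T)` for a Sylow `p`-subgroup `T` of `A`. -/
theorem IsSylowOf.frattini_resOf {p : ℕ} [Fact p.Prime] {T A : Subgroup X} [Finite ↥A]
    (h : IsSylowOf p T A) {a : X} (ha : a ∈ A) :
    ∃ x ∈ resOf p (pElementClosure p A), ∃ n ∈ A ⊓ Subgroup.normalizer (T : Set X), a = x * n := by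
  have hLA := pElementClosure_le p A
  have hfin : Finite ↥(pElementClosure p A) :=
    Finite.of_injective (Subgroup.inclusion hLA) (Subgroup.inclusion_injective _)
  have hTL : T ≤ pElementClosure p A := le_pElementClosure_of_isPGroup h.le h.isPGroup
  have hT : IsSylowOf p T (pElementClosure p A) := h.of_le hLA hTL
  have haN : a ∈ Subgroup.normalizer (pElementClosure p A : Set X) :=
    normalizer_le_normalizer_pElementClosure p A (Subgroup.le_normalizer ha)
  have hTa : IsSylowOf p (T.map (MulAut.conj a).toMonoidHom) (pElementClosure p A) := by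
    have := hT.map_equiv (MulAut.conj a)
    rwa [map_conj_eq_iff_mem_normalizer.2 haN] at this
  obtain ⟨l, hl, hlT⟩ := hT.exists_conj hTa
  obtain ⟨x, hx, t, ht, rfl⟩ := hT.exists_mul hl
  refine ⟨x, hx, x⁻¹ * a, ⟨?_, ?_⟩, by group⟩
  · exact A.mul_mem (A.inv_mem (hLA (resOf_le p _ hx))) ha
  · show x⁻¹ * a ∈ Subgroup.normalizer (T : Set X)
    rw [← map_conj_eq_iff_mem_normalizer]
    have e1 : (MulAut.conj (x⁻¹ * a)).toMonoidHom = (MulAut.conj x⁻¹).toMonoidHom.comp (MulAut.conj a).toMonoidHom := by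
      ext y; simp [mul_assoc]
    have e2 : (MulAut.conj (x * t)).toMonoidHom = (MulAut.conj x).toMonoidHom.comp (MulAut.conj t).toMonoidHom := by
      ext y; simp [mul_assoc]
    have e3 : (MulAut.conj x⁻¹).toMonoidHom.comp (MulAut.conj x).toMonoidHom = MonoidHom.id X := by
      ext y; simp [mul_assoc]
    have e4 : T.map (MulAut.conj t).toMonoidHom = T :=
      map_conj_eq_iff_mem_normalizer.2 (Subgroup.le_normalizer ht)
    rw [e1, ← Subgroup.map_map, ← hlT, e2, ← Subgroup.map_map, e4, Subgroup.map_map, e3, Subgroup.map_id]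

theorem omegaOne_map_equiv {Y : Type*} [Group Y] (p : ℕ) (e : X ≃* Y) (A : Subgroup X) :
    omegaOne p (A.map e.toMonoidHom) = (omegaOne p A).map e.toMonoidHom := by
  unfold omegaOne
  rw [MonoidHom.map_closure]
  congr 1
  ext g
  constructor
  · rintro ⟨⟨a, ha, rfl⟩, h2⟩
    refine ⟨a, ⟨ha, ?_⟩, rfl⟩
    rw [← map_pow] at h2
    exact e.injective (by simpa using h2)
  · rintro ⟨a, ⟨h1, h2⟩, rfl⟩
    refine ⟨⟨a, h1, rfl⟩, ?_⟩
    rw [← map_pow, h2, map_one]

theorem centralizer_map_equiv {Y : Type*} [Group Y] (e : X ≃* Y) (A : Subgroup X) :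
    Subgroup.centralizer ((A.map e.toMonoidHom : Subgroup Y) : Set Y) =
      (Subgroup.centralizer (A : Set X)).map e.toMonoidHom := by
  ext y
  rw [Subgroup.mem_centralizer_iff]
  constructor
  · intro h
    refine ⟨e.symm y, ?_, by simp⟩
    show e.symm y ∈ Subgroup.centralizer (A : Set X)
    rw [Subgroup.mem_centralizer_iff]
    intro a ha
    have := h (e a) ⟨a, ha, rfl⟩
    apply e.injective
    rw [map_mul, map_mul, e.apply_symm_apply]
    exact this
  · rintro ⟨z, hz, rfl⟩ _ ⟨a, ha, rfl⟩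
    have := (Subgroup.mem_centralizer_iff.1 hz) a ha
    show e a * e z = e z * e a
    rw [← map_mul, this, map_mul]

/-- `Z_A` in terms of relative Sylow subgroups. -/
theorem sylowCenterClosure_eq (p : ℕ) (A : Subgroup X) :
    sylowCenterClosure p A = ⨆ T : {T : Subgroup X // IsSylowOf p T A},
      omegaOne p ((T : Subgroup X) ⊓ Subgroup.centralizer ((T : Subgroup X) : Set X)) := by
  unfold sylowCenterClosure
  apply le_antisymm
  · refine iSup_le fun S => ?_
    exact le_iSup (fun T : {T : Subgroup X // IsSylowOf p T A} =>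
      omegaOne p ((T : Subgroup X) ⊓ Subgroup.centralizer ((T : Subgroup X) : Set X))) ⟨_, S, rfl⟩
  · refine iSup_le ?_
    rintro ⟨T, S, rfl⟩
    exact le_iSup (fun S : Sylow p ↥A => omegaOne p (((S : Subgroup ↥A).map A.subtype) ⊓
      Subgroup.centralizer (((S : Subgroup ↥A).map A.subtype : Subgroup X) : Set X))) S

theorem omegaOne_le_sylowCenterClosure {p : ℕ} {T A : Subgroup X} (h : IsSylowOf p T A) :
    omegaOne p (T ⊓ Subgroup.centralizer (T : Set X)) ≤ sylowCenterClosure p A := by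
  rw [sylowCenterClosure_eq]
  exact le_iSup (fun T : {T : Subgroup X // IsSylowOf p T A} =>
      omegaOne p ((T : Subgroup X) ⊓ Subgroup.centralizer ((T : Subgroup X) : Set X))) ⟨T, h⟩

theorem sylowCenterClosure_le_iff {p : ℕ} {A B : Subgroup X} :
    sylowCenterClosure p A ≤ B ↔ ∀ T : Subgroup X, IsSylowOf p T A →
      omegaOne p (T ⊓ Subgroup.centralizer (T : Set X)) ≤ B := by
  rw [sylowCenterClosure_eq, iSup_le_iff]
  exact ⟨fun h T hT => h ⟨T, hT⟩, fun h T => h T.1 T.2⟩

theorem map_sylowCenterClosure_le {Y : Type*} [Group Y] (p : ℕ) (e : X ≃* Y) (A : Subgroup X) :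
    (sylowCenterClosure p A).map e.toMonoidHom ≤ sylowCenterClosure p (A.map e.toMonoidHom) := by
  rw [Subgroup.map_le_iff_le_comap, sylowCenterClosure_le_iff]
  intro T hT
  rw [← Subgroup.map_le_iff_le_comap, ← omegaOne_map_equiv, Subgroup.map_inf _ _ _ e.injective,
    ← centralizer_map_equiv]
  exact omegaOne_le_sylowCenterClosure (hT.map_equiv e)

theorem sylowCenterClosure_map_equiv {Y : Type*} [Group Y] (p : ℕ) (e : X ≃* Y) (A : Subgroup X) :
    sylowCenterClosure p (A.map e.toMonoidHom) = (sylowCenterClosure p A).map e.toMonoidHom := by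
  apply le_antisymm _ (map_sylowCenterClosure_le p e A)
  rw [← Subgroup.map_le_map_iff_of_injective (f := e.symm.toMonoidHom) e.symm.injective]
  have e1 : e.symm.toMonoidHom.comp e.toMonoidHom = MonoidHom.id X := by ext; simp
  rw [Subgroup.map_map, e1, Subgroup.map_id]
  refine (map_sylowCenterClosure_le p e.symm (A.map e.toMonoidHom)).trans ?_
  rw [Subgroup.map_map, e1, Subgroup.map_id]

theorem omegaOne_le (p : ℕ) (A : Subgroup X) : omegaOne p A ≤ A := by
  unfold omegaOne
  rw [Subgroup.closure_le]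
  exact fun x hx => hx.1

/-- `Ω₁(Z(T)) ≠ 1` for a finite nontrivial `p`-group. -/
theorem omegaOne_center_ne_bot {p : ℕ} [Fact p.Prime] {T : Subgroup X} [Finite ↥T]
    (hT : IsPGroup p ↥T) (hT1 : T ≠ ⊥) : omegaOne p (T ⊓ Subgroup.centralizer (T : Set X)) ≠ ⊥ := by
  have : Nontrivial ↥T := (Subgroup.nontrivial_iff_ne_bot T).2 hT1
  have hc : Nontrivial ↥(Subgroup.center ↥T) := hT.center_nontrivial
  have hcp : IsPGroup p ↥(Subgroup.center ↥T) := hT.to_subgroup _
  obtain ⟨z, hz⟩ := IsPGroup.iff_card.1 hcp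
  have hz0 : z ≠ 0 := by
    rintro rfl
    rw [pow_zero] at hz
    have := Finite.one_lt_card_iff_nontrivial.2 hc
    omega
  have hd : p ∣ Nat.card ↥(Subgroup.center ↥T) := by
    rw [hz]; exact dvd_pow_self p hz0
  obtain ⟨c, hc⟩ := exists_prime_orderOf_dvd_card' p hd
  intro h
  have hmem : ((c : ↥T) : X) ∈ omegaOne p (T ⊓ Subgroup.centralizer (T : Set X)) := by
    refine Subgroup.subset_closure ⟨⟨(c : ↥T).2, ?_⟩, ?_⟩
    · show ((c : ↥T) : X) ∈ Subgroup.centralizer (T : Set X)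
      rw [Subgroup.mem_centralizer_iff]
      intro t ht
      have := Subgroup.mem_center_iff.1 c.2 ⟨t, ht⟩
      exact congrArg Subtype.val this
    · have h1 : c ^ p = 1 := by rw [← hc]; exact pow_orderOf_eq_one c
      have h2 := congrArg (fun y : ↥(Subgroup.center ↥T) => ((y : ↥T) : X)) h1
      simpa using h2
  rw [h, Subgroup.mem_bot] at hmem
  have : c = 1 := by
    ext
    exact hmem
  rw [this, orderOf_one] at hc
  exact (Fact.out : p.Prime).one_lt.ne hc

end Cfsg.Agent.H230
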