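import Cfsg.Agent.H230.ConfFix
import Cfsg.Agent.KFacts.Ru.CentEng
import Cfsg.Agent.RuLat.Main

/-!
# The Rudvalis group has no configuration `3²:GL₂(3)` (`Conf432`)
-/

set_option autoImplicit false
set_option maxRecDepth 100000
set_option exponentiation.threshold 5000

namespace Cfsg.Agent.H230.RuConf

open Subgroup Cfsg Cfsg.Agent.H399 Cfsg.Agent.H230.ConfFix
open Cfsg.Agent.Lib Cfsg.Agent.SporadicB Cfsg.Agent.SporadicB.RuOrder Cfsg.Agent.RuD.Letters
open Cfsg.Agent.SporRec.TCUpperCert Cfsg.Agent.SporRec.R3.Kernel Cfsg.Agent.KFacts.Ru.CentEng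

/-- the word of `a` -/
def wa : List ℕ := [3, 5, 0, 4, 1, 1, 7, 5, 7, 1, 3, 0, 4, 0, 7, 6, 3, 5, 3, 6, 6, 8, 0, 5, 7]
/-- the word of `b` -/
def wb : List ℕ := [7, 6, 4, 3, 0, 5, 7, 1, 3, 3, 5, 0, 4, 0, 5, 7, 7, 6, 3, 5, 0, 7, 8, 1, 3]
/-- the word of `z` -/
def wz : List ℕ := [4]

/-- the element of a word -/
noncomputable abbrev el (w : List ℕ) : RuOrder.H := wprod ml w

/-- the word `a^j b^k` -/
def wjk (j k : ℕ) : List ℕ := (List.replicate j wa).flatten ++ (List.replicate k wb).flatten

theorem el_append (u v : List ℕ) : el (u ++ v) = el u * el v := wprod_append _ _ _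

theorem el_pow (w : List ℕ) (j : ℕ) : el (List.replicate j w).flatten = el w ^ j := by
  induction j with
  | zero => rw [pow_zero]; rfl
  | succ j ih => rw [List.replicate_succ, List.flatten_cons, el_append, ih, pow_succ']

theorem el_wjk (j k : ℕ) : el (wjk j k) = el wa ^ j * el wb ^ k := by
  rw [wjk, el_append, el_pow, el_pow]

/-- equality of two words -/
noncomputable def chkEq (u v : List ℕ) : Bool :=
  allL (fun b => Nat.beq (evalK u b) (evalK v b)) [0, 29, 580, 577]

theorem eq_of_chkEq {u v : List ℕ} (h : chkEq u v = true) : wprod ml u = (wprod ml v : RuOrder.H) := by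
  have h1 := (allL_iff _ _).1 h
  apply eq_of_base
  intro b hb
  rw [evalK_eq, evalK_eq]
  simp only [List.mem_cons, List.not_mem_nil, or_false] at hb
  rcases hb with rfl | rfl | rfl | rfl
  · exact Nat.eq_of_beq_eq_true (h1 0 (by simp))
  · exact Nat.eq_of_beq_eq_true (h1 29 (by simp))
  · exact Nat.eq_of_beq_eq_true (h1 580 (by simp))
  · exact Nat.eq_of_beq_eq_true (h1 577 (by simp))

theorem c1 : chkEq (wz ++ (wz ++ wz)) [] = true := by decide +kernel
theorem c2 : chkEq (wa ++ (wa ++ wa)) [] = true := by decide +kernel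
theorem c3 : chkEq (wb ++ (wb ++ wb)) [] = true := by decide +kernel
theorem c4 : chkEq (wz ++ wa) (wa ++ wz) = true := by decide +kernel
theorem c5 : chkEq (wz ++ wb) (wb ++ wz) = true := by decide +kernel
theorem c6 : chkEq (wz ++ (wa ++ wb)) (wb ++ wa) = true := by decide +kernel

theorem cube {w : List ℕ} (h : chkEq (w ++ (w ++ w)) [] = true) : el w ^ 3 = 1 := by
  have h1 := eq_of_chkEq h
  rw [wprod_append, wprod_append, wprod_nil] at h1
  rw [← h1]
  simp only [pow_succ, pow_zero, one_mul, mul_assoc]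

/-- the value of a word at a point -/
theorem smul_val (w : List ℕ) (i : Fin 4060) : ((el w • i : Fin 4060) : ℕ) = evalK w i := evalK_eq w i

theorem smul_of {w : List ℕ} {i j : ℕ} (hi : i < 4060) (hj : j < 4060) (h : Nat.beq (evalK w i) j = true) :
    el w • (⟨i, hi⟩ : Fin 4060) = ⟨j, hj⟩ := by
  apply Fin.ext
  rw [smul_val]
  exact Nat.eq_of_beq_eq_true h

/-- the table of `a^j b^k • q` -/
def tab : List ((ℕ × ℕ) × ℕ) :=
  [((0, 0), 171), ((0, 1), 2985), ((0, 2), 2295), ((1, 0), 3355), ((1, 1), 1968), ((1, 2), 510),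
    ((2, 0), 1301), ((2, 1), 995), ((2, 2), 440)]

noncomputable def chkTab : Bool := allL (fun t => Nat.beq (evalK (wjk t.1.1 t.1.2) 171) t.2) tab

theorem chk_tab : chkTab = true := by decide +kernel

theorem tab_eq {t : (ℕ × ℕ) × ℕ} (ht : t ∈ tab) : evalK (wjk t.1.1 t.1.2) 171 = t.2 :=
  Nat.eq_of_beq_eq_true ((allL_iff _ _).1 chk_tab t ht)

/-- the mask of a list -/
def maskOf : List ℕ → ℕ
  | [] => 0
  | a :: l => 2 ^ a ||| maskOf l

theorem mem_of_testBit {l : List ℕ} {i : ℕ} (h : (maskOf l).testBit i = true) : i ∈ l := by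
  induction l with
  | nil => simp [maskOf] at h
  | cons a l ih =>
    rw [maskOf, Nat.testBit_or, Bool.or_eq_true] at h
    rcases h with h | h
    · rw [Nat.testBit_two_pow] at h
      have : a = i := by simpa using h
      rw [this]; exact List.mem_cons_self
    · exact List.mem_cons_of_mem _ (ih h)

theorem chk_fix : Nat.beq (fixMask wz) (maskOf [171, 440, 510, 995, 1301, 1781, 1968, 2295, 2985, 3355]) = true := by
  decide +kernel

theorem fix_mem {i : Fin 4060} (h : el wz • i = i) :
    (i : ℕ) ∈ [171, 440, 510, 995, 1301, 1781, 1968, 2295, 2985, 3355] := by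
  apply mem_of_testBit
  rw [← Nat.eq_of_beq_eq_true chk_fix]
  exact (testBit_fixMask wz i).2 h

theorem p1 : Nat.beq (evalK wz 1781) 1781 = true := by decide +kernel
theorem p2 : Nat.beq (evalK wa 1781) 1781 = true := by decide +kernel
theorem p3 : Nat.beq (evalK wb 1781) 1781 = true := by decide +kernel
theorem p4 : Nat.beq (evalK wz 171) 171 = true := by decide +kernel
theorem p5 : Nat.beq (evalK wz 0) 0 = false := by decide +kernel

theorem fix : Fix RuOrder.H (el wz) (el wa) (el wb) (⟨171, by norm_num⟩ : Fin 4060) ⟨1781, by norm_num⟩ where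
  hz := cube c1
  ha := cube c2
  hb := cube c3
  za := by rw [← el_append, ← el_append]; exact eq_of_chkEq c4
  zb := by rw [← el_append, ← el_append]; exact eq_of_chkEq c5
  ab := by rw [← el_append, ← el_append, ← el_append]; exact eq_of_chkEq c6
  z1 := by
    intro h
    have h1 := smul_val wz ⟨0, by norm_num⟩
    rw [h, one_smul] at h1
    have h2 := p5
    rw [show evalK wz 0 = 0 from h1.symm] at h2
    exact absurd h2 (by decide)
  zp := smul_of _ _ p1
  ap := smul_of _ _ p2
  bp := smul_of _ _ p3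
  fix := by
    intro i hi
    have h := fix_mem hi
    have key : ∀ j k : ℕ, ((j, k), (i : ℕ)) ∈ tab → i = (el wa ^ j * el wb ^ k) • (⟨171, by norm_num⟩ : Fin 4060) := by
      intro j k ht
      have h1 := tab_eq ht
      apply Fin.ext
      rw [← el_wjk, smul_val]
      exact h1.symm
    simp only [List.mem_cons, List.not_mem_nil, or_false] at h
    rcases h with h | h | h | h | h | h | h | h | h | h
    · exact Or.inr ⟨0, 0, key 0 0 (by rw [h]; simp [tab])⟩
    · exact Or.inr ⟨2, 2, key 2 2 (by rw [h]; simp [tab])⟩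
    · exact Or.inr ⟨1, 2, key 1 2 (by rw [h]; simp [tab])⟩
    · exact Or.inr ⟨2, 1, key 2 1 (by rw [h]; simp [tab])⟩
    · exact Or.inr ⟨2, 0, key 2 0 (by rw [h]; simp [tab])⟩
    · exact Or.inl (Fin.ext h)
    · exact Or.inr ⟨1, 1, key 1 1 (by rw [h]; simp [tab])⟩
    · exact Or.inr ⟨0, 2, key 0 2 (by rw [h]; simp [tab])⟩
    · exact Or.inr ⟨0, 1, key 0 1 (by rw [h]; simp [tab])⟩
    · exact Or.inr ⟨1, 0, key 1 0 (by rw [h]; simp [tab])⟩
  reg := by
    intro j hj k hk h
    have h1 : evalK (wjk j k) 171 = 171 := by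
      have h2 := smul_val (wjk j k) ⟨171, by norm_num⟩
      rw [el_wjk, h] at h2
      exact h2.symm
    interval_cases j <;> interval_cases k
    · exact ⟨rfl, rfl⟩
    · have h3 := tab_eq (t := ((0, 1), 2985)) (by simp [tab]); simp only at h3; omega
    · have h3 := tab_eq (t := ((0, 2), 2295)) (by simp [tab]); simp only at h3; omega
    · have h3 := tab_eq (t := ((1, 0), 3355)) (by simp [tab]); simp only at h3; omega
    · have h3 := tab_eq (t := ((1, 1), 1968)) (by simp [tab]); simp only at h3; omega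
    · have h3 := tab_eq (t := ((1, 2), 510)) (by simp [tab]); simp only at h3; omega
    · have h3 := tab_eq (t := ((2, 0), 1301)) (by simp [tab]); simp only at h3; omega
    · have h3 := tab_eq (t := ((2, 1), 995)) (by simp [tab]); simp only at h3; omega
    · have h3 := tab_eq (t := ((2, 2), 440)) (by simp [tab]); simp only at h3; omega

/-- the Rudvalis group has no configuration `Conf432` -/
theorem ru {A Q S : Subgroup Spor.Ru} {g : Spor.Ru} (h : Conf432 A Q S g) : False := by
  have : Finite RuOrder.H := Nat.finite_of_card_ne_zero (by rw [card_H]; norm_num)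
  have e : Spor.Ru ≃* RuOrder.H := Cfsg.Agent.RuLat.Main.equiv
  have : Finite Spor.Ru := Finite.of_equiv _ e.symm.toEquiv
  have := isPretransitive
  refine conf_false_of_equiv e fix (smul_of _ _ p4) ?_ ?_ h
  · simp
  · rw [card_H]; simp

end Cfsg.Agent.H230.RuConf
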